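import Cfsg.Agent.H324.AP.Forms

/-!
# S4791, S4927, classical rows: the interface of the forms (helper324)

* `FrmB p S e` : the Sylow `p`-subgroups are abelian, with at least two block generators `x i` (`BG p ⊤ P x e`);
* `FrmG p S e` : the Sylow `p`-subgroups are abelian, and there are `(c + 1) / 2` independent invariant forms of degree
  `p - 1 - e`, `e c = p - 1`, `c ≥ 2`; `FrmB.frmG`.
-/

set_option autoImplicit false

namespace Cfsg.Agent.H324.AP

open Cfsg.Agent.H603.AP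

universe u v

/-- block generators -/
def FrmB (p : ℕ) (S : Type u) [Group S] (e : ℕ) : Prop :=
  ∀ P : Sylow p S, (∀ x ∈ (P : Subgroup S), ∀ y ∈ (P : Subgroup S), x * y = y * x) ∧
    ∃ (n : ℕ) (x : Fin n → S), 2 ≤ n ∧ BG p ⊤ (P : Subgroup S) x e

/-- invariant forms -/
def FrmG (p : ℕ) (S : Type u) [Group S] [Finite S] (e : ℕ) : Prop :=
  ∀ P : Sylow p S, (∀ x ∈ (P : Subgroup S), ∀ y ∈ (P : Subgroup S), x * y = y * x) ∧
    ∀ c : ℕ, e * c = p - 1 → 2 ≤ c → ∃ f : Fin ((c + 1) / 2) → LL p P → ZMod p,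
      LinearIndependent (ZMod p) f ∧ (∀ i, f i ∈ Pol p P (p - 1 - e)) ∧ ∀ i, WInv P (f i)

theorem FrmB.frmG {p : ℕ} [Fact p.Prime] (hp2 : p ≠ 2) {S : Type u} [Group S] [Finite S] {e : ℕ} (he : 1 ≤ e)
    (h : FrmB p S e) : FrmG p S e := by
  intro P
  obtain ⟨h1, n, x, hn, h2⟩ := h P
  refine ⟨h1, fun c hc h3 => ?_⟩
  have : Nontrivial (Fin n) := Fin.nontrivial_iff_two_le.2 hn
  exact exists_forms he (by rw [mul_comm]; exact hc) h3 hp2 h2

end Cfsg.Agent.H324.AP
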