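import Mathlib

/-!
# S4791, S4927, classical rows: block generators of an abelian Sylow `p`-subgroup (helper324)

* `BG p K P x E` : `x i ∈ P` are independent modulo `P ^ p` and `N_K(P)` permutes them up to powers `t` with `t ^ E = 1`
  modulo `p`;
* `Blks p K P Q E` : `P` is the direct product of cyclic subgroups `Q i`, permuted by `N_K(P)`, and the stabilizer of `Q i`
  acts by powers `t` with `t ^ E = 1` modulo `p`; `Blks.exists_bg` : then there are block generators.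
-/

set_option autoImplicit false

namespace Cfsg.Agent.H324.AP

universe u v

/-- block generators -/
structure BG (p : ℕ) {G : Type u} [Group G] (K P : Subgroup G) {ι : Type v} (x : ι → G) (E : ℕ) : Prop where
  mem : ∀ i, x i ∈ P
  free : ∀ v : ι → ZMod p, ∃ l : P →* Multiplicative (ZMod p), ∀ i, Multiplicative.toAdd (l ⟨x i, mem i⟩) = v i
  act : ∀ g ∈ K ⊓ Subgroup.normalizer (P : Set G), ∃ σ : Equiv.Perm ι, ∀ i, ∃ t : ℕ,
    (t : ZMod p) ^ E = 1 ∧ g * x i * g⁻¹ = x (σ i) ^ t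

/-- blocks -/
structure Blks (p : ℕ) {G : Type u} [Group G] (K P : Subgroup G) {ι : Type v} (Q : ι → Subgroup G) (E : ℕ) : Prop where
  le : ∀ i, Q i ≤ P
  ne : ∀ i, Q i ≠ ⊥
  cyc : ∀ i, ∃ z, Q i = Subgroup.zpowers z
  proj : ∀ i, ∃ f : P →* G, (∀ y, f y ∈ Q i) ∧ (∀ y : P, (y : G) ∈ Q i → f y = y) ∧
    ∀ j, j ≠ i → ∀ y : P, (y : G) ∈ Q j → f y = 1
  perm : ∀ g ∈ K ⊓ Subgroup.normalizer (P : Set G), ∀ i, ∃ j, ∀ y, y ∈ Q i ↔ g * y * g⁻¹ ∈ Q j
  fus : ∀ g ∈ K ⊓ Subgroup.normalizer (P : Set G), ∀ i, (∀ y, y ∈ Q i ↔ g * y * g⁻¹ ∈ Q i) → ∀ z, Q i = Subgroup.zpowers z →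
    ∀ t : ℕ, g * z * g⁻¹ = z ^ t → (t : ZMod p) ^ E = 1

theorem Blks.inj {p : ℕ} {G : Type u} [Group G] {K P : Subgroup G} {ι : Type v} {Q : ι → Subgroup G} {E : ℕ}
    (h : Blks p K P Q E) {i j : ι} (hij : Q i = Q j) : i = j := by
  by_contra hne
  obtain ⟨f, h1, h2, h3⟩ := h.proj i
  apply h.ne i
  rw [eq_bot_iff]
  intro y hy
  have h4 := h2 ⟨y, h.le i hy⟩ hy
  have h5 := h3 j (Ne.symm hne) ⟨y, h.le i hy⟩ (by rw [← hij]; exact hy)
  rw [h5] at h4
  exact h4.symm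

theorem Blks.exists_bg {p : ℕ} [hp : Fact p.Prime] {G : Type u} [Group G] {K P : Subgroup G} [Finite P] (hP : IsPGroup p P)
    {ι : Type v} [Finite ι] {Q : ι → Subgroup G} {E : ℕ} (h : Blks p K P Q E) :
    ∃ x : ι → G, BG p K P x E ∧ ∀ i, Q i = Subgroup.zpowers (x i) := by
  classical
  have := Fintype.ofFinite ι
  let N := K ⊓ Subgroup.normalizer (P : Set G)
  let s : Setoid ι :=
    { r := fun i j => ∃ g ∈ N, ∀ y, y ∈ Q i ↔ g * y * g⁻¹ ∈ Q j
      iseqv := by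
        refine ⟨fun i => ⟨1, N.one_mem, fun y => by simp⟩, ?_, ?_⟩
        · rintro i j ⟨g, hg, h1⟩
          refine ⟨g⁻¹, N.inv_mem hg, fun y => ?_⟩
          rw [h1]
          have : g * (g⁻¹ * y * g⁻¹⁻¹) * g⁻¹ = y := by group
          rw [this]
        · rintro i j k ⟨g, hg, h1⟩ ⟨g', hg', h2⟩
          refine ⟨g' * g, N.mul_mem hg' hg, fun y => ?_⟩
          rw [h1, h2]
          have : g' * (g * y * g⁻¹) * g'⁻¹ = g' * g * y * (g' * g)⁻¹ := by group
          rw [this] }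
  let rep : ι → ι := fun i => (Quotient.mk s i).out
  have hrep : ∀ i, ∃ g ∈ N, ∀ y, y ∈ Q (rep i) ↔ g * y * g⁻¹ ∈ Q i := fun i => Quotient.mk_out (s := s) i
  choose k hkN hk using hrep
  choose z hz using h.cyc
  let x : ι → G := fun i => k i * z (rep i) * (k i)⁻¹
  have hQx : ∀ i, Q i = Subgroup.zpowers (x i) := by
    intro i
    ext y
    have h1 := hk i ((k i)⁻¹ * y * k i)
    have h2 : k i * ((k i)⁻¹ * y * k i) * (k i)⁻¹ = y := by group
    rw [h2] at h1
    rw [← h1, hz (rep i), Subgroup.mem_zpowers_iff, Subgroup.mem_zpowers_iff]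
    refine exists_congr fun n => ?_
    rw [show x i ^ n = k i * z (rep i) ^ n * (k i)⁻¹ from conj_zpow]
    constructor
    · intro h3
      rw [h3]
      group
    · intro h3
      rw [← h3]
      group
  have hxQ : ∀ i, x i ∈ Q i := fun i => by rw [hQx i]; exact Subgroup.mem_zpowers _
  have hx1 : ∀ i, x i ≠ 1 := by
    intro i h1
    apply h.ne i
    rw [hQx i, h1, Subgroup.zpowers_one_eq_bot]
  have hmem : ∀ i, x i ∈ P := fun i => h.le i (hxQ i)
  refine ⟨x, ⟨hmem, fun v => ?_, fun g hg => ?_⟩, hQx⟩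
  · choose f hf1 hf2 hf3 using h.proj
    have hc : ∀ i, ∃ c : Q i →* Multiplicative (ZMod p), c ⟨x i, hxQ i⟩ = Multiplicative.ofAdd (v i) := by
      intro i
      have hg : ∀ y : Q i, y ∈ Subgroup.zpowers (⟨x i, hxQ i⟩ : Q i) := by
        intro y
        have h1 : (y : G) ∈ Subgroup.zpowers (x i) := by rw [← hQx i]; exact y.2
        obtain ⟨n, hn⟩ := Subgroup.mem_zpowers_iff.1 h1
        exact Subgroup.mem_zpowers_iff.2 ⟨n, Subtype.ext hn⟩
      have ho : orderOf (Multiplicative.ofAdd (v i)) ∣ orderOf (⟨x i, hxQ i⟩ : Q i) := by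
        refine (orderOf_dvd_of_pow_eq_one (n := p) ?_).trans ?_
        · rw [← ofAdd_nsmul, nsmul_eq_mul, CharP.cast_eq_zero, zero_mul, ofAdd_zero]
        · rw [← Subgroup.orderOf_coe]
          change p ∣ orderOf (x i)
          obtain ⟨n, hn⟩ := hP ⟨x i, hmem i⟩
          have hn' : x i ^ p ^ n = 1 := congrArg Subtype.val hn
          obtain ⟨m, -, hm'⟩ := (Nat.dvd_prime_pow hp.out).1 (orderOf_dvd_of_pow_eq_one hn')
          rw [hm']
          refine dvd_pow_self p ?_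
          rintro rfl
          rw [pow_zero, orderOf_eq_one_iff] at hm'
          exact hx1 i hm'
      exact ⟨monoidHomOfForallMemZpowers hg ho, monoidHomOfForallMemZpowers_apply_gen hg ho⟩
    choose c hcv using hc
    let fi : ∀ i, P →* Q i := fun i => (f i).codRestrict (Q i) (hf1 i)
    refine ⟨∏ i, (c i).comp (fi i), fun j => ?_⟩
    rw [MonoidHom.finsetProd_apply, Finset.prod_eq_single j]
    · have h1 : fi j ⟨x j, hmem j⟩ = ⟨x j, hxQ j⟩ := Subtype.ext (hf2 j ⟨x j, hmem j⟩ (hxQ j))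
      rw [MonoidHom.comp_apply, h1, hcv]
      rfl
    · intro i _ hij
      have h1 : fi i ⟨x j, hmem j⟩ = 1 := Subtype.ext (hf3 i j (Ne.symm hij) ⟨x j, hmem j⟩ (hxQ j))
      rw [MonoidHom.comp_apply, h1, map_one]
    · intro h1
      exact absurd (Finset.mem_univ j) h1
  · choose σ hσ using h.perm g hg
    have hinj : Function.Injective σ := by
      intro i j hij
      apply h.inj
      ext y
      rw [hσ i, hσ j, hij]
    refine ⟨Equiv.ofBijective σ (Finite.injective_iff_bijective.1 hinj), fun i => ?_⟩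
    change ∃ t : ℕ, (t : ZMod p) ^ E = 1 ∧ g * x i * g⁻¹ = x (σ i) ^ t
    have hr : rep (σ i) = rep i := by
      have h1 : Quotient.mk s (σ i) = Quotient.mk s i := (Quotient.sound (s := s) ⟨g, hg, hσ i⟩).symm
      change (Quotient.mk s (σ i)).out = (Quotient.mk s i).out
      rw [h1]
    set u := (k (σ i))⁻¹ * g * k i with hu
    have huN : u ∈ N := N.mul_mem (N.mul_mem (N.inv_mem (hkN _)) hg) (hkN i)
    have h1 : ∀ y, y ∈ Q (rep i) ↔ u * y * u⁻¹ ∈ Q (rep i) := by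
      intro y
      rw [hk i, hσ i]
      have h2 := hk (σ i) (u * y * u⁻¹)
      rw [hr] at h2
      rw [h2]
      have h3 : k (σ i) * (u * y * u⁻¹) * (k (σ i))⁻¹ = g * (k i * y * (k i)⁻¹) * g⁻¹ := by
        rw [hu]; group
      rw [h3]
    have h2 : u * z (rep i) * u⁻¹ ∈ Q (rep i) := (h1 _).1 (by rw [hz (rep i)]; exact Subgroup.mem_zpowers _)
    have hfo : IsOfFinOrder (z (rep i)) := by
      have h3 : z (rep i) ∈ P := h.le (rep i) (by rw [hz (rep i)]; exact Subgroup.mem_zpowers _)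
      obtain ⟨n, hn⟩ := hP ⟨z (rep i), h3⟩
      exact isOfFinOrder_iff_pow_eq_one.2 ⟨p ^ n, pow_pos hp.out.pos n, congrArg Subtype.val hn⟩
    rw [hz (rep i), ← hfo.mem_powers_iff_mem_zpowers] at h2
    obtain ⟨t, ht⟩ := h2
    refine ⟨t, h.fus u huN (rep i) h1 (z (rep i)) (hz _) t ht.symm, ?_⟩
    have h3 : g * x i * g⁻¹ = k (σ i) * (u * z (rep i) * u⁻¹) * (k (σ i))⁻¹ := by
      change g * (k i * z (rep i) * (k i)⁻¹) * g⁻¹ = _
      rw [hu]; group
    have h4 : x (σ i) = k (σ i) * z (rep i) * (k (σ i))⁻¹ := by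
      change k (σ i) * z (rep (σ i)) * (k (σ i))⁻¹ = _
      rw [hr]
    rw [h3, ← ht, h4, conj_pow]

end Cfsg.Agent.H324.AP
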