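import Cfsg.Agent.H324.AP.MinS

/-!
# S4791, S4927, classical rows: exponents of fusion and cyclic blocks (helper324)

* `exists_field` : `M` irreducible under `z`: a finite field `K = F[ζ]` with `f(ζ) = 0 ↔ f(z)|_M = 0`;
* `exp_same` : `g M = M`, `g z g⁻¹ = z ^ t` on `M`: `z ^ t = z ^ (|F| ^ j)` on `M`;
* `exp_dual` : `M`, `N` dually paired by `B`, `g M = N`: `z ^ (-t) = z ^ (κ |F| ^ j)` on `M`;
* `cyclic_of_irr` : a subgroup of an abelian group `P` which is faithful on an irreducible `P`-module is cyclic.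
-/

set_option autoImplicit false

namespace Cfsg.Agent.H324.AP

open Submodule Module Polynomial

universe u v

variable {F : Type u} [Field F] {V : Type v} [AddCommGroup V] [Module F V]

/-- roots of the minimal polynomial over a finite field -/
theorem root_eq_pow [Finite F] {K : Type u} [Field K] [Finite K] [Algebra F K] {ζ η : K}
    (h : aeval η (minpoly F ζ) = 0) : ∃ j : ℕ, η = ζ ^ (Nat.card F ^ j) := by
  have := Fintype.ofFinite F
  obtain ⟨σ, hσ⟩ := minpoly.exists_algEquiv_of_root' (Algebra.IsAlgebraic.isAlgebraic ζ) h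
  obtain ⟨n, hn⟩ := (FiniteField.bijective_frobeniusAlgEquivOfAlgebraic_pow F K).2 σ
  refine ⟨n, ?_⟩
  rw [← hσ, ← hn, AlgEquiv.coe_pow, FiniteField.coe_frobeniusAlgEquivOfAlgebraic_iterate, Nat.card_eq_fintype_card]

/-- the linear map of `z` -/
abbrev toE (z : V ≃ₗ[F] V) : Module.End F V := (z : V →ₗ[F] V)

theorem aeval_mem {z : V ≃ₗ[F] V} {M : Submodule F V} (hM : ∀ m ∈ M, z m ∈ M) (f : F[X]) {m : V} (hm : m ∈ M) :
    aeval (toE z) f m ∈ M := by
  induction f using Polynomial.induction_on' with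
  | add f g hf hg =>
    rw [map_add, LinearMap.add_apply]
    exact M.add_mem hf hg
  | monomial n a =>
    rw [aeval_monomial, Module.End.mul_apply, Module.algebraMap_end_apply]
    refine M.smul_mem a ?_
    induction n with
    | zero => exact hm
    | succ n ih =>
      rw [pow_succ', Module.End.mul_apply]
      exact hM _ ih

theorem aeval_comm {z : V ≃ₗ[F] V} (f g : F[X]) (m : V) :
    aeval (toE z) f (aeval (toE z) g m) = aeval (toE z) g (aeval (toE z) f m) := by
  rw [← Module.End.mul_apply, ← Module.End.mul_apply, ← map_mul, ← map_mul, mul_comm]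

theorem aeval_X_pow (z : V ≃ₗ[F] V) (n : ℕ) (m : V) : aeval (toE z) (X ^ n : F[X]) m = (z ^ n) m := by
  rw [map_pow, aeval_X]
  induction n with
  | zero => rfl
  | succ n ih =>
    rw [pow_succ', Module.End.mul_apply, ih, pow_succ', LinearEquiv.mul_apply]
    rfl

/-- the field of an irreducible module of a cyclic group -/
theorem exists_field [Finite V] {z : V ≃ₗ[F] V} {M : Submodule F V} (hM : ∀ m ∈ M, z m ∈ M) (h0 : M ≠ ⊥)
    (hmin : ∀ X : Submodule F V, X ≤ M → (∀ m ∈ X, z m ∈ X) → X = ⊥ ∨ X = M) :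
    ∃ (K : Type u) (_ : Field K) (_ : Finite K) (_ : Algebra F K) (ζ : K), ∀ f : F[X],
      (∀ m ∈ M, aeval (toE z) f m = 0) ↔ aeval ζ f = 0 := by
  classical
  let I : Ideal F[X] :=
    { carrier := {f | ∀ m ∈ M, aeval (toE z) f m = 0}
      add_mem' := fun {f g} hf hg m hm => by rw [map_add, LinearMap.add_apply, hf m hm, hg m hm, add_zero]
      zero_mem' := fun m _ => by rw [map_zero, LinearMap.zero_apply]
      smul_mem' := fun f g hg m hm => by
        rw [smul_eq_mul, map_mul, Module.End.mul_apply, hg m hm, map_zero] }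
  have hI : ∀ f, f ∈ I ↔ ∀ m ∈ M, aeval (toE z) f m = 0 := fun f => Iff.rfl
  have hprime : I.IsPrime := by
    rw [Ideal.isPrime_iff]
    refine ⟨?_, fun {f g} hfg => ?_⟩
    · intro h1
      apply h0
      rw [eq_bot_iff]
      intro m hm
      have h2 : (1 : F[X]) ∈ I := by rw [h1]; trivial
      have h3 := h2 m hm
      rwa [map_one] at h3
    · by_contra hcon
      push Not at hcon
      obtain ⟨hf, hg⟩ := hcon
      let Y : Submodule F V :=
        { carrier := {m | m ∈ M ∧ aeval (toE z) f m = 0}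
          add_mem' := fun {a b} ha hb => ⟨M.add_mem ha.1 hb.1, by rw [map_add, ha.2, hb.2, add_zero]⟩
          zero_mem' := ⟨M.zero_mem, map_zero _⟩
          smul_mem' := fun c a ha => ⟨M.smul_mem c ha.1, by rw [map_smul, ha.2, smul_zero]⟩ }
      have hY : Y = ⊥ ∨ Y = M := by
        refine hmin Y (fun m hm => hm.1) fun m hm => ⟨hM m hm.1, ?_⟩
        have h1 := aeval_comm (z := z) f X m
        rw [aeval_X] at h1
        change aeval (toE z) f (z m) = z (aeval (toE z) f m) at h1
        rw [h1, hm.2, map_zero]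
      rcases hY with hY | hY
      · apply hg
        intro m hm
        have h1 : aeval (toE z) g m ∈ Y := by
          refine ⟨aeval_mem hM g hm, ?_⟩
          rw [← Module.End.mul_apply, ← map_mul]
          exact hfg m hm
        rw [hY] at h1
        exact h1
      · apply hf
        intro m hm
        rw [← hY] at hm
        exact hm.2
  have hdom : IsDomain (F[X] ⧸ I) := Ideal.Quotient.isDomain I
  have hfin : Finite (F[X] ⧸ I) := by
    let φ : F[X] ⧸ I → (M → V) := Quotient.lift (fun f => fun m : M => aeval (toE z) f (m : V)) (by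
      intro f g hfg
      have h1 : f - g ∈ I := by
        have h2 := (Submodule.quotientRel_def _).1 hfg
        exact h2
      funext m
      have h2 := h1 m m.2
      rw [map_sub, LinearMap.sub_apply, sub_eq_zero] at h2
      exact h2)
    refine Finite.of_injective φ ?_
    intro a b
    obtain ⟨f, rfl⟩ := Ideal.Quotient.mk_surjective a
    obtain ⟨g, rfl⟩ := Ideal.Quotient.mk_surjective b
    intro h
    rw [Ideal.Quotient.eq]
    intro m hm
    have h1 := congrFun h ⟨m, hm⟩
    change aeval (toE z) f m = aeval (toE z) g m at h1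
    rw [map_sub, LinearMap.sub_apply, h1, sub_self]
  have := Fintype.ofFinite (F[X] ⧸ I)
  let fld : Field (F[X] ⧸ I) := Fintype.fieldOfDomain (F[X] ⧸ I)
  refine ⟨F[X] ⧸ I, fld, hfin, Ideal.Quotient.algebra F, Ideal.Quotient.mk I X, fun f => ?_⟩
  rw [← hI, ← Ideal.Quotient.eq_zero_iff_mem]
  have h1 : aeval (Ideal.Quotient.mk I X) f = Ideal.Quotient.mk I f := by
    have h2 := Polynomial.aeval_algHom_apply (Ideal.Quotient.mkₐ F I) X f
    rw [aeval_X_left_apply] at h2
    exact h2
  constructor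
  · intro h
    exact h1.trans h
  · intro h
    exact h1.symm.trans h

theorem aeval_conj (g z : V ≃ₗ[F] V) (f : F[X]) (m : V) :
    aeval (toE (g * z * g⁻¹)) f m = g (aeval (toE z) f (g⁻¹ m)) := by
  have hpow : ∀ (n : ℕ) (w : V ≃ₗ[F] V) (m : V), (toE w ^ n) m = (w ^ n) m := by
    intro n w m
    rw [← aeval_X_pow w n m, map_pow, aeval_X]
  induction f using Polynomial.induction_on' with
  | add f g' hf hg =>
    rw [map_add, map_add, LinearMap.add_apply, LinearMap.add_apply, map_add, hf, hg]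
  | monomial n a =>
    rw [aeval_monomial, aeval_monomial, Module.End.mul_apply, Module.End.mul_apply, Module.algebraMap_end_apply,
      Module.algebraMap_end_apply, map_smul, hpow, hpow, conj_pow]
    rfl

theorem aeval_pow_expand (z : V ≃ₗ[F] V) (t : ℕ) (f : F[X]) (m : V) :
    aeval (toE (z ^ t)) f m = aeval (toE z) (expand F t f) m := by
  rw [expand_aeval]
  have h1 : toE (z ^ t) = toE z ^ t := by
    apply LinearMap.ext
    intro m
    have h2 := aeval_X_pow z t m
    rw [map_pow, aeval_X] at h2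
    exact h2.symm
  rw [h1]

/-- **exponents, `g M = M`** -/
theorem exp_same [Finite V] [Finite F] {z g : V ≃ₗ[F] V} {M : Submodule F V} (hM : ∀ m ∈ M, z m ∈ M) (h0 : M ≠ ⊥)
    (hmin : ∀ X : Submodule F V, X ≤ M → (∀ m ∈ X, z m ∈ X) → X = ⊥ ∨ X = M) (hg : ∀ m ∈ M, g⁻¹ m ∈ M) {t : ℕ}
    (ht : g * z * g⁻¹ = z ^ t) : ∃ j : ℕ, ∀ m ∈ M, (z ^ t) m = (z ^ (Nat.card F ^ j)) m := by
  obtain ⟨K, _, _, _, ζ, hζ⟩ := exists_field hM h0 hmin
  have h1 := (hζ (minpoly F ζ)).2 (minpoly.aeval F ζ)
  have h2 : aeval (ζ ^ t) (minpoly F ζ) = 0 := by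
    rw [← expand_aeval, ← hζ]
    intro m hm
    rw [← aeval_pow_expand, ← ht, aeval_conj, h1 _ (hg m hm), map_zero]
  obtain ⟨j, hj⟩ := root_eq_pow h2
  refine ⟨j, fun m hm => ?_⟩
  have h3 : aeval ζ (X ^ t - X ^ (Nat.card F ^ j) : F[X]) = 0 := by
    rw [map_sub, map_pow, map_pow, aeval_X, hj, sub_self]
  have h4 := (hζ _).2 h3 m hm
  rwa [map_sub, LinearMap.sub_apply, aeval_X_pow, aeval_X_pow, sub_eq_zero] at h4

section form

variable {τ : F →+* F} {B : V → V → F} {G : Subgroup (V ≃ₗ[F] V)}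

theorem SplF.aeval_adj (h : SplF τ B G) {w w' : V ≃ₗ[F] V} (hw : w' ∈ G) (hww : w' * w = 1) (f : F[X]) (m n : V) :
    B m (aeval (toE w) f n) = B (aeval (toE w') (f.map τ) m) n := by
  have hpow : ∀ (k : ℕ) (w : V ≃ₗ[F] V) (m : V), (toE w ^ k) m = (w ^ k) m := by
    intro n w m
    rw [← aeval_X_pow w n m, map_pow, aeval_X]
  induction f using Polynomial.induction_on' with
  | add f g hf hg =>
    rw [Polynomial.map_add, map_add, map_add, LinearMap.add_apply, LinearMap.add_apply, h.add_right, h.add_left, hf, hg]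
  | monomial k a =>
    rw [Polynomial.map_monomial, aeval_monomial, aeval_monomial, Module.End.mul_apply, Module.End.mul_apply,
      Module.algebraMap_end_apply, Module.algebraMap_end_apply, hpow, hpow, h.smul_right, h.smul_left]
    congr 1
    have h1 := h.pres (w' ^ k) (G.pow_mem hw k) m ((w ^ k) n)
    rw [← h1]
    congr 1
    have h2 : w' ^ k * w ^ k = 1 := by
      have hc : Commute w' w := by
        change w' * w = w * w'
        rw [hww, mul_eq_one_iff_eq_inv.1 hww, mul_inv_cancel]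
      rw [← hc.mul_pow, hww, one_pow]
    have h3 : (w' ^ k * w ^ k) n = n := by rw [h2]; rfl
    exact h3

/-- **exponents, `g M = N` dual to `M`** -/
theorem exp_dual [Finite V] [Finite F] (h : SplF τ B G) {r s : ℕ} [Fact r.Prime] [CharP F r]
    (hτ : ∀ a, τ a = a ^ (r ^ s)) {z g : V ≃ₗ[F] V} (hz : z ∈ G) {M N : Submodule F V} (hM : ∀ m ∈ M, z m ∈ M) (h0 : M ≠ ⊥)
    (hmin : ∀ X : Submodule F V, X ≤ M → (∀ m ∈ X, z m ∈ X) → X = ⊥ ∨ X = M)
    (hMN : ∀ m ∈ M, (∀ n ∈ N, B m n = 0) → m = 0) (hg : ∀ n ∈ N, g⁻¹ n ∈ M) {t t' : ℕ}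
    (ht : g * z * g⁻¹ = z ^ t) (ht' : z ^ t' * z ^ t = 1) :
    ∃ j : ℕ, ∀ m ∈ M, (z ^ t') m = (z ^ (r ^ s * Nat.card F ^ j)) m := by
  obtain ⟨K, _, _, _, ζ, hζ⟩ := exists_field hM h0 hmin
  have hchar : CharP K r := charP_of_injective_algebraMap (algebraMap F K).injective r
  have hexp : ExpChar K r := ExpChar.prime Fact.out
  have h1 := (hζ (minpoly F ζ)).2 (minpoly.aeval F ζ)
  have h2 : aeval (ζ ^ t') ((minpoly F ζ).map τ) = 0 := by
    rw [← expand_aeval, ← hζ]
    intro m hm
    rw [← aeval_pow_expand]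
    have hM' : ∀ m ∈ M, (z ^ t') m ∈ M := by
      intro m hm
      have h3 := aeval_mem (z := z) hM (X ^ t' : F[X]) hm
      rwa [aeval_X_pow] at h3
    refine hMN _ (aeval_mem hM' _ hm) fun n hn => ?_
    rw [← h.aeval_adj (G.pow_mem hz t') ht' (minpoly F ζ) m n, ← ht, aeval_conj, h1 _ (hg n hn), map_zero, h.zero_right]
  let θ : K →+* K := iterateFrobenius K r s
  have hθ : ∀ a, θ a = a ^ r ^ s := fun a => iterateFrobenius_def ..
  obtain ⟨η', hη'⟩ := (Finite.injective_iff_surjective.1 θ.injective) (ζ ^ t')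
  have h3 : aeval η' (minpoly F ζ) = 0 := by
    apply θ.injective
    rw [map_zero, aeval_def, Polynomial.hom_eval₂, hη']
    rw [aeval_def, Polynomial.eval₂_map] at h2
    rw [← h2]
    congr 1
    ext a
    rw [RingHom.comp_apply, RingHom.comp_apply, hθ, hτ, map_pow]
  obtain ⟨j, hj⟩ := root_eq_pow h3
  refine ⟨j, fun m hm => ?_⟩
  have h4 : aeval ζ (X ^ t' - X ^ (r ^ s * Nat.card F ^ j) : F[X]) = 0 := by
    rw [map_sub, map_pow, map_pow, aeval_X, ← hη', hj, hθ, ← pow_mul, mul_comm, sub_self]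
  have h5 := (hζ _).2 h4 m hm
  rwa [map_sub, LinearMap.sub_apply, aeval_X_pow, aeval_X_pow, sub_eq_zero] at h5

end form

/-- **faithful subgroups of abelian groups on irreducible modules are cyclic** -/
theorem cyclic_of_irr [Finite V] {P Q : Subgroup (V ≃ₗ[F] V)} (hab : ∀ a ∈ P, ∀ b ∈ P, a * b = b * a)
    {M : Submodule F V} (hM : Irr P M) (hQ : Q ≤ P) (hf : ∀ y ∈ Q, (∀ m ∈ M, y m = m) → y = 1) :
    ∃ z, Q = Subgroup.zpowers z := by
  classical
  have hfinV : Finite (V ≃ₗ[F] V) := Finite.of_injective (fun g : V ≃ₗ[F] V => (g : V → V)) DFunLike.coe_injective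
  let ρ : P →* Module.End F M :=
    { toFun := fun y => (toE (y : V ≃ₗ[F] V)).restrict (hM.inv y y.2)
      map_one' := by ext m; rfl
      map_mul' := fun a b => by ext m; rfl }
  have hρ : ∀ (y : P) (m : M), ((ρ y m : M) : V) = (y : V ≃ₗ[F] V) m := fun _ _ => rfl
  let s : Set (Module.End F M) := Set.range ρ
  have hcomm : ∀ a ∈ s, ∀ b ∈ s, a * b = b * a := by
    rintro _ ⟨a, rfl⟩ _ ⟨b, rfl⟩
    rw [← map_mul, ← map_mul]
    congr 1
    exact Subtype.ext (hab a a.2 b b.2)
  let R := Algebra.adjoin F s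
  have hRc := Algebra.isMulCommutative_adjoin F hcomm
  have hRcomm : ∀ a b : R, a * b = b * a := fun a b => mul_comm' a b
  have hρR : ∀ y : P, ρ y ∈ R := fun y => Algebra.subset_adjoin ⟨y, rfl⟩
  have hnz : ∀ a b : R, a * b = 0 → a = 0 ∨ b = 0 := by
    intro a b hab'
    by_contra hcon
    push Not at hcon
    let Y : Submodule F V := (LinearMap.ker (b : Module.End F M)).map M.subtype
    have hY : Y = ⊥ ∨ Y = M := by
      refine hM.min Y (Submodule.map_subtype_le _ _) ?_
      rintro g hg _ ⟨m, hm, rfl⟩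
      refine ⟨ρ ⟨g, hg⟩ m, ?_, rfl⟩
      have h1 := congrArg (fun c : R => ((c : Module.End F M)) m) (hRcomm b ⟨ρ ⟨g, hg⟩, hρR _⟩)
      change (b : Module.End F M) (ρ ⟨g, hg⟩ m) = ρ ⟨g, hg⟩ ((b : Module.End F M) m) at h1
      change (b : Module.End F M) (ρ ⟨g, hg⟩ m) = 0
      rw [h1, show (b : Module.End F M) m = 0 from hm, map_zero]
    rcases hY with hY | hY
    · apply hcon.1
      apply Subtype.ext
      apply LinearMap.ext
      intro m
      have h1 := congrArg (fun c : R => ((c : Module.End F M)) m) ((hRcomm b a).trans hab')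
      change (b : Module.End F M) ((a : Module.End F M) m) = 0 at h1
      have h2 : (((a : Module.End F M) m : M) : V) ∈ Y := ⟨_, h1, rfl⟩
      rw [hY] at h2
      exact Subtype.ext h2
    · apply hcon.2
      apply Subtype.ext
      apply LinearMap.ext
      intro m
      have h2 : (m : V) ∈ Y := by rw [hY]; exact m.2
      obtain ⟨m', hm', h3⟩ := h2
      have h4 : m' = m := Subtype.ext h3
      rw [← h4]
      exact hm'
  have hnt : Nontrivial R := by
    obtain ⟨m, hm, hm0⟩ := Submodule.exists_mem_ne_zero_of_ne_bot hM.ne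
    refine ⟨0, 1, fun h1 => hm0 ?_⟩
    have h2 := congrArg (fun c : R => (((c : Module.End F M)) ⟨m, hm⟩ : V)) h1
    exact h2.symm
  have hnzd : NoZeroDivisors R := ⟨fun {a b} hab' => hnz a b hab'⟩
  let cr : CommRing R := { (inferInstance : Ring R) with mul_comm := hRcomm }
  have hd : @IsDomain R cr.toCommSemiring.toSemiring := by
    have : @IsDomain R (inferInstance : Ring R).toSemiring := NoZeroDivisors.to_isDomain R
    exact this
  let f : Q →* R :=
    { toFun := fun y => ⟨ρ ⟨y, hQ y.2⟩, hρR _⟩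
      map_one' := rfl
      map_mul' := fun a b => rfl }
  have hinj : Function.Injective f := by
    rw [injective_iff_map_eq_one]
    intro y hy
    apply Subtype.ext
    refine hf y y.2 fun m hm => ?_
    have h1 := congrArg (fun c : R => (((c : Module.End F M)) ⟨m, hm⟩ : V)) hy
    exact h1
  have hcyc : IsCyclic Q := @isCyclic_of_injective_ringHom R Q cr hd _ _ f hinj
  obtain ⟨z, hz⟩ := hcyc.exists_generator
  refine ⟨z, le_antisymm (fun y hy => ?_) ((Subgroup.zpowers_le).2 z.2)⟩
  obtain ⟨n, hn⟩ := Subgroup.mem_zpowers_iff.1 (hz ⟨y, hy⟩)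
  exact Subgroup.mem_zpowers_iff.2 ⟨n, congrArg Subtype.val hn⟩

end Cfsg.Agent.H324.AP
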