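import Cfsg.Agent.H324.AP.BG
import Cfsg.Agent.H324.AP.Exp

/-!
# S4791, S4927, classical rows: decompositions and block generators (helper324)

`Dec P D D'` : decompositions `V = D i + D' i`, `D j ≤ D' i` for `j ≠ i`, invariant under `P`, with `g|_{D i} + 1_{D' i} ∈ P` for
`g ∈ P`, `C_{D i}(P) = 0`, and `g ∈ P` is determined on `D i` by its restriction to an irreducible subspace.
`Dec.exists_bg` : block generators.
-/

set_option autoImplicit false

namespace Cfsg.Agent.H324.AP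

open Submodule Module

universe u v

variable {F : Type u} [Field F] {V : Type v} [AddCommGroup V] [Module F V]

/-- see the header -/
structure Dec (P : Subgroup (V ≃ₗ[F] V)) {n : ℕ} (D D' : Fin n → Submodule F V) : Prop where
  compl : ∀ i, IsCompl (D i) (D' i)
  inv : ∀ i, Inv P (D i)
  inv' : ∀ i, Inv P (D' i)
  le : ∀ i j, i ≠ j → D j ≤ D' i
  cut : ∀ i, ∀ g : P, cutH (compl i) (inv i) g ∈ P
  nofix : ∀ i, ∀ v ∈ D i, v ∈ fixP P → v = 0
  irr : ∀ i, ∃ M ≤ D i, Irr P M ∧ ∀ y ∈ P, (∀ v ∈ D' i, y v = v) → (∀ v ∈ M, y v = v) → y = 1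

/-- the elements which are trivial on `U` -/
def triv (P : Subgroup (V ≃ₗ[F] V)) (U : Submodule F V) : Subgroup (V ≃ₗ[F] V) where
  carrier := {y | y ∈ P ∧ ∀ v ∈ U, y v = v}
  one_mem' := ⟨P.one_mem, fun _ _ => rfl⟩
  mul_mem' := fun {a b} ha hb => ⟨P.mul_mem ha.1 hb.1, fun v hv => by
    rw [LinearEquiv.mul_apply, hb.2 v hv, ha.2 v hv]⟩
  inv_mem' := fun {a} ha => ⟨P.inv_mem ha.1, fun v hv => by
    have h1 : a⁻¹ (a v) = v := LinearEquiv.symm_apply_apply a v
    rwa [ha.2 v hv] at h1⟩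

theorem mem_triv {P : Subgroup (V ≃ₗ[F] V)} {U : Submodule F V} {y : V ≃ₗ[F] V} :
    y ∈ triv P U ↔ y ∈ P ∧ ∀ v ∈ U, y v = v := Iff.rfl

theorem inv_mul_self_apply (g : V ≃ₗ[F] V) (v : V) : g⁻¹ (g v) = v := LinearEquiv.symm_apply_apply g v

theorem mul_inv_self_apply (g : V ≃ₗ[F] V) (v : V) : g (g⁻¹ v) = v := LinearEquiv.apply_symm_apply g v

variable {P : Subgroup (V ≃ₗ[F] V)} {n : ℕ} {D D' : Fin n → Submodule F V}

theorem Dec.cut_mem (h : Dec P D D') (i : Fin n) (g : P) : cutH (h.compl i) (h.inv i) g ∈ triv P (D' i) :=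
  ⟨h.cut i g, fun _ hv => cutH_right _ _ g hv⟩

/-- `C_V(Q_i) = D'_i` -/
theorem Dec.fix_eq (h : Dec P D D') (i : Fin n) : fixP (triv P (D' i)) = D' i := by
  apply le_antisymm
  · intro v hv
    have hv' : v ∈ D i ⊔ D' i := by rw [(h.compl i).sup_eq_top]; trivial
    obtain ⟨a, ha, b, hb, rfl⟩ := Submodule.mem_sup.1 hv'
    have h1 : a = 0 := by
      refine h.nofix i a ha fun y hy => ?_
      have h2 := hv _ (h.cut_mem i ⟨y, hy⟩)
      rw [map_add, cutH_left _ _ _ ha, cutH_right _ _ _ hb] at h2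
      exact add_right_cancel h2
    rw [h1, zero_add]
    exact hb
  · intro v hv y hy
    exact hy.2 v hv

theorem Dec.irr_triv (h : Dec P D D') {i : Fin n} {M : Submodule F V} (hMD : M ≤ D i) (hM : Irr P M)
    {X : Submodule F V} (hX : X ≤ M) (hXi : Inv (triv P (D' i)) X) : X = ⊥ ∨ X = M := by
  refine hM.min X hX fun g hg x hx => ?_
  have h1 := hXi _ (h.cut_mem i ⟨g, hg⟩) x hx
  rwa [cutH_left _ _ _ (hMD (hX hx))] at h1

theorem Dec.ne (h : Dec P D D') (i : Fin n) : triv P (D' i) ≠ ⊥ := by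
  intro h1
  obtain ⟨M, hMD, hM, -⟩ := h.irr i
  obtain ⟨m, hm, hm0⟩ := Submodule.exists_mem_ne_zero_of_ne_bot hM.ne
  apply hm0
  refine h.nofix i m (hMD hm) fun y hy => ?_
  have h2 := h.cut_mem i ⟨y, hy⟩
  rw [h1, Subgroup.mem_bot] at h2
  have h3 := cutH_left (h.compl i) (h.inv i) ⟨y, hy⟩ (hMD hm)
  rw [h2] at h3
  exact h3.symm

/-- **blocks from a decomposition** -/
theorem Dec.blks {p : ℕ} (h : Dec P D D') (hab : ∀ a ∈ P, ∀ b ∈ P, a * b = b * a) [Finite V]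
    {K : Subgroup (V ≃ₗ[F] V)} {E : ℕ}
    (hperm : ∀ g ∈ K ⊓ Subgroup.normalizer (P : Set (V ≃ₗ[F] V)), ∀ i, ∃ j, ∀ v, v ∈ D' i ↔ g v ∈ D' j)
    (hfus : ∀ g ∈ K ⊓ Subgroup.normalizer (P : Set (V ≃ₗ[F] V)), ∀ i, (∀ v, v ∈ D' i ↔ g v ∈ D' i) →
      ∀ z, triv P (D' i) = Subgroup.zpowers z → ∀ t : ℕ, g * z * g⁻¹ = z ^ t → (t : ZMod p) ^ E = 1) :
    Blks p K P (fun i => triv P (D' i)) E where
  le := fun i y hy => hy.1
  ne := h.ne
  cyc := fun i => by
    obtain ⟨M, hMD, hM, hf⟩ := h.irr i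
    exact cyclic_of_irr hab hM (fun y hy => hy.1) fun y hy hy' => hf y hy.1 hy.2 hy'
  proj := fun i => by
    refine ⟨cutH (h.compl i) (h.inv i), fun y => h.cut_mem i y, fun y hy => ?_, fun j hj y hy => ?_⟩
    · exact equiv_ext_compl (h.compl i) (fun u hu => cutH_left _ _ _ hu) fun w hw => by
        rw [cutH_right _ _ _ hw, hy.2 w hw]
    · exact equiv_ext_compl (h.compl i) (fun u hu => by rw [cutH_left _ _ _ hu, hy.2 u (h.le j i hj hu)]; rfl)
        fun w hw => by rw [cutH_right _ _ _ hw]; rfl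
  perm := fun g hg i => by
    obtain ⟨j, hj⟩ := hperm g hg i
    refine ⟨j, fun y => ?_⟩
    rw [mem_triv, mem_triv, ← (Subgroup.mem_normalizer_iff.1 hg.2 y)]
    refine and_congr_right fun _ => ⟨fun h1 v hv => ?_, fun h1 v hv => ?_⟩
    · have h2 : g⁻¹ v ∈ D' i := by rw [hj, mul_inv_self_apply]; exact hv
      have h3 := h1 _ h2
      rw [LinearEquiv.mul_apply, LinearEquiv.mul_apply, h3, mul_inv_self_apply]
    · have h2 := h1 (g v) ((hj v).1 hv)
      rw [LinearEquiv.mul_apply, LinearEquiv.mul_apply, inv_mul_self_apply] at h2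
      exact g.injective h2
  fus := fun g hg i h1 z hz t ht => by
    refine hfus g hg i (fun v => ?_) z hz t ht
    have key : ∀ g : V ≃ₗ[F] V, (∀ y, y ∈ triv P (D' i) ↔ g * y * g⁻¹ ∈ triv P (D' i)) → ∀ v ∈ D' i, g v ∈ D' i := by
      intro g hg v hv
      rw [← h.fix_eq i]
      intro y hy
      have h2 : g⁻¹ * y * g ∈ triv P (D' i) := by
        rw [hg]
        have h3 : g * (g⁻¹ * y * g) * g⁻¹ = y := by group
        rw [h3]; exact hy
      have h3 := h2.2 v hv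
      rw [LinearEquiv.mul_apply, LinearEquiv.mul_apply] at h3
      have h4 := congrArg g h3
      rwa [mul_inv_self_apply] at h4
    refine ⟨key g h1 v, fun hv => ?_⟩
    have h2 := key g⁻¹ (fun y => by
      rw [h1 (g⁻¹ * y * g⁻¹⁻¹)]
      have h3 : g * (g⁻¹ * y * g⁻¹⁻¹) * g⁻¹ = y := by group
      rw [h3]) _ hv
    rwa [inv_mul_self_apply] at h2

/-- generators of a block act irreducibly -/
theorem Dec.irr_gen (h : Dec P D D') {i : Fin n} {M : Submodule F V} (hMD : M ≤ D i) (hM : Irr P M) [Finite V]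
    {z : V ≃ₗ[F] V} (hz : triv P (D' i) = Subgroup.zpowers z) {X : Submodule F V} (hX : X ≤ M)
    (hXz : ∀ m ∈ X, z m ∈ X) : X = ⊥ ∨ X = M := by
  have hfin : Finite (V ≃ₗ[F] V) := Finite.of_injective (fun g : V ≃ₗ[F] V => (g : V → V)) DFunLike.coe_injective
  refine h.irr_triv hMD hM hX fun g hg x hx => ?_
  rw [hz, ← (isOfFinOrder_of_finite z).mem_powers_iff_mem_zpowers] at hg
  obtain ⟨k, rfl⟩ := hg
  change (z ^ k) x ∈ X
  induction k generalizing x with
  | zero => exact hx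
  | succ k ih =>
    rw [pow_succ, LinearEquiv.mul_apply]
    exact ih _ (hXz x hx)

/-- the number of blocks -/
theorem Dec.two_le (h : Dec P D D') (hab : ∀ a ∈ P, ∀ b ∈ P, a * b = b * a) [Finite V] (htot : ∀ y ∈ P, (∀ i, ∀ v ∈ D i, y v = v) → y = 1)
    (hnc : ¬ IsCyclic P) : 2 ≤ n := by
  by_contra hlt
  apply hnc
  rcases Nat.eq_zero_or_pos n with hn | hn
  · subst hn
    have h1 : P = ⊥ := by
      rw [eq_bot_iff]
      intro y hy
      exact htot y hy fun i => i.elim0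
    rw [h1]
    infer_instance
  · let i : Fin n := ⟨0, hn⟩
    have hi : ∀ j : Fin n, j = i := fun j => Fin.ext (by
      have h1 : (i : ℕ) = 0 := rfl
      have h2 := j.2
      omega)
    obtain ⟨M, hMD, hM, hf⟩ := h.irr i
    have hQ : triv P (D' i) = P := by
      apply le_antisymm (fun y hy => hy.1)
      intro y hy
      have h1 : cutH (h.compl i) (h.inv i) ⟨y, hy⟩ * y⁻¹ = 1 := by
        refine htot _ (P.mul_mem (h.cut i ⟨y, hy⟩) (P.inv_mem hy)) fun j v hv => ?_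
        rw [hi j] at hv
        rw [LinearEquiv.mul_apply, cutH_left _ _ _ (h.inv i _ (P.inv_mem hy) v hv)]
        exact mul_inv_self_apply y v
      have h2 : cutH (h.compl i) (h.inv i) ⟨y, hy⟩ = y := mul_inv_eq_one.1 h1
      have h3 := h.cut_mem i ⟨y, hy⟩
      rwa [h2] at h3
    obtain ⟨z, hz⟩ := cyclic_of_irr hab hM (fun y hy => hy.1 : triv P (D' i) ≤ P) fun y hy hy' => hf y hy.1 hy.2 hy'
    rw [← hQ, hz]
    infer_instance

end Cfsg.Agent.H324.AP
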