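import Cfsg.Agent.H324.AP.Form
import Cfsg.Agent.H538.GlCyc
import Cfsg.Agent.H674.XZ.PAbL

/-!
# S4791, S4927, classical rows: the dimension of the blocks (helper324)

`e = orderOf |F|` in `ZMod p`, `E ≤ 2 e`, and `E ≤ e` if `p ∣ |F| ^ j + r ^ s` for some `j`: the blocks have dimension at
least `E`; `Syl.two_le` : `dim C_V(P) + 2 E ≤ dim V` if `P` is not cyclic.
-/

set_option autoImplicit false

namespace Cfsg.Agent.H324.AP

open Submodule Module

universe u v

variable {F : Type u} [Field F] [Finite F] {V : Type v} [AddCommGroup V] [Module F V] [Finite V] [FiniteDimensional F V]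
  {p : ℕ} [hp : Fact p.Prime]

omit [Finite V] in
theorem irr_dvd {P : Subgroup (V ≃ₗ[F] V)} (hab : ∀ a ∈ P, ∀ b ∈ P, a * b = b * a) {M : Submodule F V} (hM : Irr P M)
    {x : V ≃ₗ[F] V} (hx : x ∈ P) (hxp : x ^ p = 1) (hne : ∃ m ∈ M, x m ≠ m) :
    orderOf ((Nat.card F : ℕ) : ZMod p) ∣ finrank F M := by
  have hT : (toE x) ^ p = 1 := by
    apply LinearMap.ext
    intro v
    have h1 := aeval_X_pow x p v
    rw [map_pow, Polynomial.aeval_X] at h1
    rw [h1, hxp]
    rfl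
  refine Cfsg.Agent.H538.GlCyc.dvd_finrank_sub hT M (fun m hm => hM.inv x hx m hm) fun v hv hfix => ?_
  let Y : Submodule F V :=
    { carrier := {m | m ∈ M ∧ x m = m}
      add_mem' := fun {a b} ha hb => ⟨M.add_mem ha.1 hb.1, by rw [map_add, ha.2, hb.2]⟩
      zero_mem' := ⟨M.zero_mem, map_zero _⟩
      smul_mem' := fun c a ha => ⟨M.smul_mem c ha.1, by rw [map_smul, ha.2]⟩ }
  have hY : Y = ⊥ ∨ Y = M := by
    refine hM.min Y (fun m hm => hm.1) fun g hg m hm => ⟨hM.inv g hg m hm.1, ?_⟩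
    have h1 : x (g m) = g (x m) := by
      rw [← LinearEquiv.mul_apply, ← LinearEquiv.mul_apply, hab x hx g hg]
    rw [h1, hm.2]
  rcases hY with hY | hY
  · have h1 : v ∈ Y := ⟨hv, hfix⟩
    rw [hY] at h1
    exact h1
  · exfalso
    obtain ⟨m, hm, hne⟩ := hne
    rw [← hY] at hm
    exact hne hm.2

section form

variable {τ : F →+* F} {B : V → V → F} {G P : Subgroup (V ≃ₗ[F] V)}

/-- **the dimension of the blocks** -/
theorem Frm.block_le (hpF : (p : F) ≠ 0) {h : SplF τ B G} {r s : ℕ} [Fact r.Prime] [CharP F r]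
    (hτ : ∀ a, τ a = a ^ (r ^ s)) (hP : Syl p G P) (hab : ∀ a ∈ P, ∀ b ∈ P, a * b = b * a) {n : ℕ}
    {D : Fin n → Submodule F V} (hD : Frm h P D) {E : ℕ} (hE : E ≤ 2 * orderOf ((Nat.card F : ℕ) : ZMod p))
    (hEi : (∃ j, p ∣ Nat.card F ^ j + r ^ s) → E ≤ orderOf ((Nat.card F : ℕ) : ZMod p)) (i : Fin n) :
    E ≤ finrank F (D i) := by
  have hfin : Finite (V ≃ₗ[F] V) := Finite.of_injective (fun g : V ≃ₗ[F] V => (g : V → V)) DFunLike.coe_injective
  have hdec := hD.dec hpF hP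
  obtain ⟨M, hMD, hM, hf⟩ := hdec.irr i
  obtain ⟨z, hz⟩ := cyclic_of_irr hab hM (fun y hy => hy.1 : triv P (h.perp (D i)) ≤ P)
    fun y hy hy' => hf y hy.1 hy.2 hy'
  have hzQ : z ∈ triv P (h.perp (D i)) := by rw [hz]; exact Subgroup.mem_zpowers z
  have hz1 : z ≠ 1 := by
    intro h2
    apply hdec.ne i
    rw [hz, h2, Subgroup.zpowers_one_eq_bot]
  have hdvd := dvd_orderOf hP.isP hzQ.1 hz1
  obtain ⟨k, hk⟩ := hdvd
  have hord : 0 < orderOf z := orderOf_pos z
  have hk0 : 0 < k := by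
    rcases Nat.eq_zero_or_pos k with h0 | h0
    · rw [h0, mul_zero] at hk; omega
    · exact h0
  set x := z ^ k with hxdef
  have hxp : x ^ p = 1 := by
    rw [hxdef, ← pow_mul, mul_comm, ← hk, pow_orderOf_eq_one]
  have hx1 : x ≠ 1 := by
    intro h1
    have h2 := orderOf_dvd_of_pow_eq_one h1
    rw [hk] at h2
    have h3 := Nat.le_of_dvd hk0 h2
    have h4 := hp.out.two_le
    nlinarith
  have hxQ : x ∈ triv P (h.perp (D i)) := Subgroup.pow_mem _ hzQ k
  have key : ∀ N : Submodule F V, Irr P N → (∀ y ∈ P, (∀ v ∈ h.perp (D i), y v = v) → (∀ v ∈ N, y v = v) → y = 1) →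
      orderOf ((Nat.card F : ℕ) : ZMod p) ≤ finrank F N := by
    intro N hN hfN
    have h1 : ∃ m ∈ N, x m ≠ m := by
      by_contra hcon
      push Not at hcon
      exact hx1 (hfN x hxQ.1 hxQ.2 hcon)
    refine Nat.le_of_dvd ?_ (irr_dvd hab hN hxQ.1 hxp h1)
    rw [Nat.pos_iff_ne_zero]
    intro h0
    exact hN.ne (Submodule.finrank_eq_zero.1 h0)
  rcases (hD.minS i).irr_or_two hpF h hP.le hP.isP with h2 | ⟨M, N, h2⟩
  · have hfD : ∀ y ∈ P, (∀ v ∈ h.perp (D i), y v = v) → (∀ v ∈ D i, y v = v) → y = 1 :=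
      fun y hy h3 h4 => equiv_ext_compl (hdec.compl i) h4 h3
    refine (hEi ?_).trans (key (D i) h2 hfD)
    have ht' : z ^ (orderOf z - 1) * z ^ 1 = 1 := by
      rw [← pow_add, Nat.sub_add_cancel hord, pow_orderOf_eq_one]
    obtain ⟨j, hj⟩ := exp_dual h hτ (hP.le hzQ.1) (fun m hm => h2.inv z hzQ.1 m hm) h2.ne
      (fun X hX hXz => hdec.irr_gen le_rfl h2 hz hX hXz) (hD.minS i).nd (g := 1) (fun n hn => by
        rw [inv_one]; exact hn) (by rw [one_mul, inv_one, mul_one, pow_one]) ht'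
    have h4 : z ^ (orderOf z - 1) * (z ^ (r ^ s * Nat.card F ^ j))⁻¹ = 1 := by
      refine hfD _ (P.mul_mem (P.pow_mem hzQ.1 _) (P.inv_mem (P.pow_mem hzQ.1 _))) (fun v hv => ?_) fun v hv => ?_
      · have h3 : z ^ (orderOf z - 1) * (z ^ (r ^ s * Nat.card F ^ j))⁻¹ ∈ triv P (h.perp (D i)) :=
          Subgroup.mul_mem _ (Subgroup.pow_mem _ hzQ _) (Subgroup.inv_mem _ (Subgroup.pow_mem _ hzQ _))
        exact h3.2 v hv
      · rw [LinearEquiv.mul_apply, hj _ (h2.inv _ (P.inv_mem (P.pow_mem hzQ.1 _)) v hv), mul_inv_self_apply]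
    have h5 := zpow_eq_of_gen (p := p) ⟨k, hk⟩ (mul_inv_eq_one.1 h4)
    have h6 : ((orderOf z - 1 + 1 : ℕ) : ZMod p) = 0 := by
      rw [Nat.sub_add_cancel hord, ZMod.natCast_eq_zero_iff]
      exact ⟨k, hk⟩
    rw [Nat.cast_add, Nat.cast_one, h5, Nat.cast_mul, Nat.cast_pow (Nat.card F)] at h6
    refine ⟨(orderOf ((Nat.card F : ℕ) : ZMod p) - 1) * j, ?_⟩
    rw [← ZMod.natCast_eq_zero_iff, Nat.cast_add, Nat.cast_pow (Nat.card F)]
    have hq0 : ((Nat.card F : ℕ) : ZMod p) ≠ 0 := by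
      intro h7
      rw [ZMod.natCast_eq_zero_iff] at h7
      apply hpF
      have := Fintype.ofFinite F
      rw [Nat.card_eq_fintype_card] at h7
      obtain ⟨c, hc⟩ := h7
      obtain ⟨l, hr1, hn⟩ := FiniteField.card F r
      have h8 : p ∣ r ^ (l : ℕ) := by rw [← hn, hc]; exact Dvd.intro _ rfl
      have h9 := (Nat.prime_dvd_prime_iff_eq hp.out hr1).1 (hp.out.dvd_of_dvd_pow h8)
      rw [h9]
      exact CharP.cast_eq_zero F r
    have hpos : 0 < orderOf ((Nat.card F : ℕ) : ZMod p) := by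
      rw [orderOf_pos_iff, isOfFinOrder_iff_pow_eq_one]
      refine ⟨p - 1, ?_, ZMod.pow_card_sub_one_eq_one hq0⟩
      have := hp.out.two_le
      omega
    set q : ZMod p := ((Nat.card F : ℕ) : ZMod p)
    have h8 : q ^ j * q ^ ((orderOf q - 1) * j) = 1 := by
      have h10 : j + (orderOf q - 1) * j = orderOf q * j := by
        obtain ⟨c, hc⟩ : ∃ c, orderOf q = c + 1 := ⟨orderOf q - 1, by omega⟩
        rw [hc, Nat.add_sub_cancel]
        ring
      rw [← pow_add, h10, pow_mul, pow_orderOf_eq_one, one_pow]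
    have h9 : (((r ^ s : ℕ) : ZMod p) * q ^ j + 1) * q ^ ((orderOf q - 1) * j) = 0 := by rw [h6, zero_mul]
    rw [add_mul, mul_assoc, h8, mul_one, one_mul, add_comm] at h9
    exact h9
  · have hMD : M ≤ D i := h2.sup ▸ le_sup_left
    have hND : N ≤ D i := h2.sup ▸ le_sup_right
    have hfM : ∀ y ∈ P, (∀ v ∈ h.perp (D i), y v = v) → (∀ v ∈ M, y v = v) → y = 1 := by
      intro y hy h3 h4
      refine equiv_ext_compl (hdec.compl i) (fun v hv => ?_) h3
      rw [← h2.sup] at hv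
      obtain ⟨m, hm, w, hw, rfl⟩ := Submodule.mem_sup.1 hv
      rw [map_add, h4 m hm]
      have h5 : y w - w = 0 := by
        refine h2.pN _ (N.sub_mem (h2.irrN.inv y hy w hw) hw) fun m' hm' => ?_
        have h6 := h.pres y (hP.le hy) w m'
        rw [h4 m' hm'] at h6
        rw [h.sub_left, h6, sub_self]
      rw [sub_eq_zero.1 h5]
      rfl
    have hfN : ∀ y ∈ P, (∀ v ∈ h.perp (D i), y v = v) → (∀ v ∈ N, y v = v) → y = 1 := by
      intro y hy h3 h4
      refine equiv_ext_compl (hdec.compl i) (fun v hv => ?_) h3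
      rw [← h2.sup] at hv
      obtain ⟨m, hm, w, hw, rfl⟩ := Submodule.mem_sup.1 hv
      rw [map_add, h4 w hw]
      have h5 : y m - m = 0 := by
        refine h2.pM _ (M.sub_mem (h2.irrM.inv y hy m hm) hm) fun m' hm' => ?_
        have h6 := h.pres y (hP.le hy) m m'
        rw [h4 m' hm'] at h6
        rw [h.sub_left, h6, sub_self]
      rw [sub_eq_zero.1 h5]
      rfl
    have e1 := key M h2.irrM hfM
    have e2 := key N h2.irrN hfN
    have e3 := Submodule.finrank_sup_add_finrank_inf_eq M N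
    rw [h2.sup, h2.inf, finrank_bot] at e3
    omega

/-- **two blocks**, `P` abelian -/
theorem Syl.two_le_ab (hpF : (p : F) ≠ 0) (h : SplF τ B G) {r s : ℕ} [Fact r.Prime] [CharP F r]
    (hτ : ∀ a, τ a = a ^ (r ^ s)) (hP : Syl p G P) (hab : ∀ a ∈ P, ∀ b ∈ P, a * b = b * a) (hnc : ¬ IsCyclic P) {E : ℕ}
    (hE : E ≤ 2 * orderOf ((Nat.card F : ℕ) : ZMod p))
    (hEi : (∃ j, p ∣ Nat.card F ^ j + r ^ s) → E ≤ orderOf ((Nat.card F : ℕ) : ZMod p)) :
    finrank F (fixP P) + 2 * E ≤ finrank F V := by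
  obtain ⟨n, D, hD⟩ := hP.exists_frm hpF h
  have hdec := hD.dec hpF hP
  have hn := hdec.two_le hab (fun y hy h1 => hD.tot hpF hP hy h1) hnc
  let i : Fin n := ⟨0, by omega⟩
  let j : Fin n := ⟨1, by omega⟩
  have hij : i ≠ j := fun h1 => by
    have h2 : (0 : ℕ) = 1 := congrArg Fin.val h1
    omega
  have e1 := hD.block_le hpF hτ hP hab hE hEi i
  have e2 := hD.block_le hpF hτ hP hab hE hEi j
  have e3 := Submodule.finrank_add_eq_of_isCompl (hdec.compl i)
  have h1 : D j ⊔ fixP P ≤ h.perp (D i) := by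
    refine sup_le (hdec.le i j hij) fun v hv w hw => ?_
    exact h.refl _ _ (hD.le_perp i hw v hv)
  have h2 : D j ⊓ fixP P = ⊥ := by
    rw [eq_bot_iff]
    rintro v ⟨hv, hv'⟩
    exact hdec.nofix j v hv hv'
  have e4 := Submodule.finrank_mono h1
  have e5 := Submodule.finrank_sup_add_finrank_inf_eq (D j) (fixP P)
  rw [h2, finrank_bot] at e5
  omega

/-- **nonabelian `P`** -/
theorem Syl.le_of_nonab (hp2 : p ≠ 2) (hpF : (p : F) ≠ 0) (h : SplF τ B G) {r s : ℕ} [Fact r.Prime] [CharP F r]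
    (hτ : ∀ a, τ a = a ^ (r ^ s)) (hP : Syl p G P) (hna : ¬ ∀ a ∈ P, ∀ b ∈ P, a * b = b * a) {E : ℕ}
    (hE : E ≤ 2 * orderOf ((Nat.card F : ℕ) : ZMod p))
    (hEi : (∃ j, p ∣ Nat.card F ^ j + r ^ s) → E ≤ orderOf ((Nat.card F : ℕ) : ZMod p)) :
    finrank F (fixP P) + p * E ≤ finrank F V := by
  have := Fintype.ofFinite F
  have hfin : Finite (V ≃ₗ[F] V) := Finite.of_injective (fun g : V ≃ₗ[F] V => (g : V → V)) DFunLike.coe_injective
  have hnd := nd_fix hpF h hP.le hP.isP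
  have hc := h.isCompl_perp hnd
  have hW := h.inv_perp hP.le (inv_fixP P)
  let ρ : P →* Module.End F (h.perp (fixP P)) :=
    { toFun := fun y => (toE (y : V ≃ₗ[F] V)).restrict (hW y y.2)
      map_one' := by ext m; rfl
      map_mul' := fun a b => by ext m; rfl }
  have hρa : ∀ (y : P) (m : h.perp (fixP P)), ((ρ y m : h.perp (fixP P)) : V) = (y : V ≃ₗ[F] V) m := fun _ _ => rfl
  have hρ : Function.Injective ρ := by
    rw [injective_iff_map_eq_one]
    intro y hy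
    apply Subtype.ext
    refine equiv_ext_compl hc (fun v hv => hv y y.2) fun w hw => ?_
    have h1 := hρa y ⟨w, hw⟩
    rw [hy] at h1
    exact h1.symm
  have hna' : ¬ ∀ x y : P, x * y = y * x := fun h1 => hna fun a ha b hb => congrArg Subtype.val (h1 ⟨a, ha⟩ ⟨b, hb⟩)
  have e1 := Submodule.finrank_add_eq_of_isCompl hc
  have h2 : p * E ≤ finrank F (h.perp (fixP P)) := by
    by_cases hj : ∃ j, p ∣ Nat.card F ^ j + r ^ s
    · have h3 := Cfsg.Agent.H965.XZ.le_finrank_of_nonab hpF hP.isP ρ hρ hna'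
      exact (Nat.mul_le_mul_left p (hEi hj)).trans h3
    · push Not at hj
      have hbij : Function.Bijective τ := Finite.injective_iff_bijective.1 τ.injective
      have h3 := Cfsg.Agent.H674.XZ.Iso.two_le_finrank hpF (RingEquiv.ofBijective τ hbij) (fun a => hτ a)
        (fun j => by rw [← Nat.card_eq_fintype_card]; exact hj j) hP.isP ρ hρ hna'
        (B := fun u v : h.perp (fixP P) => B u v) (fun u u' v => h.add_left _ _ _) (fun u v v' => h.add_right _ _ _)
        (fun a u v => h.smul_left _ _ _) (fun a u v => h.smul_right _ _ _) (fun x u v => h.pres _ (hP.le x.2) _ _)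
        (fun u hu => Subtype.ext (h.nd_perp hnd u u.2 fun w hw => hu ⟨w, hw⟩))
      rw [← Nat.card_eq_fintype_card] at h3
      have h4 := Nat.mul_le_mul_left p hE
      calc p * E ≤ p * (2 * orderOf ((Nat.card F : ℕ) : ZMod p)) := h4
        _ = 2 * (p * orderOf ((Nat.card F : ℕ) : ZMod p)) := by ring
        _ ≤ _ := h3
  omega

/-- **two blocks** -/
theorem Syl.two_le (hp2 : p ≠ 2) (hpF : (p : F) ≠ 0) (h : SplF τ B G) {r s : ℕ} [Fact r.Prime] [CharP F r]
    (hτ : ∀ a, τ a = a ^ (r ^ s)) (hP : Syl p G P) (hnc : ¬ IsCyclic P) {E : ℕ}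
    (hE : E ≤ 2 * orderOf ((Nat.card F : ℕ) : ZMod p))
    (hEi : (∃ j, p ∣ Nat.card F ^ j + r ^ s) → E ≤ orderOf ((Nat.card F : ℕ) : ZMod p)) :
    finrank F (fixP P) + 2 * E ≤ finrank F V := by
  by_cases hab : ∀ a ∈ P, ∀ b ∈ P, a * b = b * a
  · exact hP.two_le_ab hpF h hτ hab hnc hE hEi
  · have h1 := hP.le_of_nonab hp2 hpF h hτ hab hE hEi
    have h2 := Nat.mul_le_mul_right E hp.out.two_le
    omega

end form

end Cfsg.Agent.H324.AP
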