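import Cfsg.Agent.H324.AP.Dec

/-!
# S4791, S4927, classical rows: block generators in isometry groups (helper324)

`SplF.exists_bg` : `P` an abelian, not cyclic Sylow `p`-subgroup of the isometry group `G`: at least two block generators.
-/

set_option autoImplicit false

namespace Cfsg.Agent.H324.AP

open Submodule Module

universe u v

variable {F : Type u} [Field F] {V : Type v} [AddCommGroup V] [Module F V]

theorem zpow_eq_of_gen {p : ℕ} {A : Type*} [Group A] {z : A} (hz : p ∣ orderOf z) {a b : ℕ} (h : z ^ a = z ^ b) :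
    (a : ZMod p) = b := by
  rw [ZMod.natCast_eq_natCast_iff]
  exact (pow_eq_pow_iff_modEq.1 h).of_dvd hz

theorem dvd_orderOf {p : ℕ} [hp : Fact p.Prime] {A : Type*} [Group A] {P : Subgroup A} (hP : IsPGroup p P) {z : A}
    (hz : z ∈ P) (h1 : z ≠ 1) : p ∣ orderOf z := by
  obtain ⟨n, hn⟩ := hP ⟨z, hz⟩
  have hn' : z ^ p ^ n = 1 := congrArg Subtype.val hn
  obtain ⟨m, -, hm'⟩ := (Nat.dvd_prime_pow hp.out).1 (orderOf_dvd_of_pow_eq_one hn')
  rw [hm']
  refine dvd_pow_self p ?_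
  rintro rfl
  rw [pow_zero, orderOf_eq_one_iff] at hm'
  exact h1 hm'

section map

variable {P : Subgroup (V ≃ₗ[F] V)}

/-- the image under `g` -/
abbrev im (g : V ≃ₗ[F] V) (D : Submodule F V) : Submodule F V := D.map (g : V →ₗ[F] V)

theorem mem_im {g : V ≃ₗ[F] V} {D : Submodule F V} {v : V} : v ∈ im g D ↔ g⁻¹ v ∈ D := by
  constructor
  · rintro ⟨d, hd, rfl⟩
    have h1 : g⁻¹ (g d) = d := inv_mul_self_apply g d
    change g⁻¹ (g d) ∈ D
    rw [h1]; exact hd
  · intro h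
    exact ⟨g⁻¹ v, h, mul_inv_self_apply g v⟩

theorem apply_mem_im {g : V ≃ₗ[F] V} {D : Submodule F V} {v : V} : g v ∈ im g D ↔ v ∈ D := by
  rw [mem_im, inv_mul_self_apply]

theorem im_le_iff {g : V ≃ₗ[F] V} {X D : Submodule F V} : X ≤ im g D ↔ im g⁻¹ X ≤ D := by
  constructor
  · intro h v hv
    rw [mem_im, inv_inv] at hv
    exact apply_mem_im.1 (h hv)
  · intro h v hv
    rw [mem_im]
    exact h (apply_mem_im.2 hv)

theorem im_im (g : V ≃ₗ[F] V) (D : Submodule F V) : im g (im g⁻¹ D) = D := by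
  ext v
  rw [mem_im, mem_im, inv_inv, mul_inv_self_apply]

theorem im_eq_bot {g : V ≃ₗ[F] V} {D : Submodule F V} : im g D = ⊥ ↔ D = ⊥ := by
  rw [eq_bot_iff, eq_bot_iff]
  constructor
  · intro h v hv
    have h1 := h (apply_mem_im.2 hv : g v ∈ im g D)
    exact (map_eq_zero_iff g g.injective).1 h1
  · rintro h _ ⟨d, hd, rfl⟩
    have h1 : d = 0 := h hd
    rw [h1, map_zero]
    exact Submodule.zero_mem _

theorem conj_mem {g : V ≃ₗ[F] V} (hg : g ∈ Subgroup.normalizer (P : Set (V ≃ₗ[F] V))) {y : V ≃ₗ[F] V} (hy : y ∈ P) :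
    g⁻¹ * y * g ∈ P := by
  rw [Subgroup.mem_normalizer_iff] at hg
  have h1 := hg (g⁻¹ * y * g)
  have h2 : g * (g⁻¹ * y * g) * g⁻¹ = y := by group
  rw [h2] at h1
  exact h1.2 hy

theorem Inv.im {g : V ≃ₗ[F] V} (hg : g ∈ Subgroup.normalizer (P : Set (V ≃ₗ[F] V))) {D : Submodule F V} (hD : Inv P D) :
    Inv P (im g D) := by
  intro y hy v hv
  rw [mem_im] at hv ⊢
  have h1 := hD _ (conj_mem hg hy) _ hv
  rwa [LinearEquiv.mul_apply, LinearEquiv.mul_apply, mul_inv_self_apply] at h1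

theorem Irr.im {g : V ≃ₗ[F] V} (hg : g ∈ Subgroup.normalizer (P : Set (V ≃ₗ[F] V))) {D : Submodule F V} (hD : Irr P D) :
    Irr P (im g D) where
  inv := hD.inv.im hg
  ne := fun h => hD.ne (im_eq_bot.1 h)
  min := fun X hX hXi => by
    rcases hD.min (AP.im g⁻¹ X) (im_le_iff.1 hX) (hXi.im (Subgroup.inv_mem _ hg)) with h1 | h1
    · left; exact im_eq_bot.1 h1
    · right; rw [← h1, im_im]

theorem fix_mem {g : V ≃ₗ[F] V} (hg : g ∈ Subgroup.normalizer (P : Set (V ≃ₗ[F] V))) {v : V} (hv : v ∈ fixP P) :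
    g⁻¹ v ∈ fixP P := by
  intro y hy
  have hg' := Subgroup.mem_normalizer_iff.1 hg y
  have h1 := hv _ (hg'.1 hy)
  rw [LinearEquiv.mul_apply, LinearEquiv.mul_apply] at h1
  have h2 := congrArg (fun v => g⁻¹ v) h1
  change g⁻¹ (g (y (g⁻¹ v))) = g⁻¹ v at h2
  rwa [inv_mul_self_apply] at h2

end map

section form

variable {τ : F →+* F} {B : V → V → F} {G P : Subgroup (V ≃ₗ[F] V)} {p : ℕ}

theorem MinS.im {g : V ≃ₗ[F] V} (h : SplF τ B G) (hgG : g ∈ G) (hg : g ∈ Subgroup.normalizer (P : Set (V ≃ₗ[F] V)))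
    {D : Submodule F V} (hD : MinS B P D) : MinS B P (im g D) := by
  have hnd : ∀ g : V ≃ₗ[F] V, g ∈ G → ∀ X : Submodule F V, ND B X → ND B (AP.im g X) := by
    rintro g hg X hX _ ⟨v, hv, rfl⟩ hv'
    have h1 : v = 0 := hX v hv fun w hw => by
      have h2 := hv' (g w) (apply_mem_im.2 hw)
      rwa [← h.pres g hg]
    rw [h1, map_zero]
  refine ⟨hD.inv.im hg, hnd g hgG D hD.nd, fun h1 => hD.ne (im_eq_bot.1 h1), fun X hX hXi hXn => ?_⟩
  rcases hD.min (AP.im g⁻¹ X) (im_le_iff.1 hX) (hXi.im (Subgroup.inv_mem _ hg)) (hnd _ (G.inv_mem hgG) _ hXn) with h1 | h1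
  · left; exact im_eq_bot.1 h1
  · right; rw [← h1, im_im]

/-- the frame of a Sylow `p`-subgroup -/
structure Frm (h : SplF τ B G) (P : Subgroup (V ≃ₗ[F] V)) {n : ℕ} (D : Fin n → Submodule F V) : Prop where
  minS : ∀ i, MinS B P (D i)
  orth : ∀ i j, i ≠ j → ∀ u ∈ D i, ∀ w ∈ D j, B u w = 0
  sup : ⨆ i, D i = h.perp (fixP P)

theorem Syl.exists_frm [Finite V] [FiniteDimensional F V] [Fact p.Prime] (hpF : (p : F) ≠ 0) (h : SplF τ B G)
    (hP : Syl p G P) : ∃ (n : ℕ) (D : Fin n → Submodule F V), Frm h P D := by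
  have hnd := nd_fix hpF h hP.le hP.isP
  obtain ⟨n, D, h1, h2, h3⟩ := exists_frame h hP.le (h.inv_perp hP.le (inv_fixP P)) (h.nd_perp hnd)
  exact ⟨n, D, h1, h2, h3⟩

theorem Frm.le_perp {h : SplF τ B G} {n : ℕ} {D : Fin n → Submodule F V} (hD : Frm h P D) (i : Fin n) :
    D i ≤ h.perp (fixP P) := hD.sup ▸ le_iSup D i

theorem Frm.dec [Finite V] [FiniteDimensional F V] [Fact p.Prime] (hpF : (p : F) ≠ 0) {h : SplF τ B G}
    (hP : Syl p G P) {n : ℕ} {D : Fin n → Submodule F V} (hD : Frm h P D) : Dec P D (fun i => h.perp (D i)) where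
  compl := fun i => h.isCompl_perp (hD.minS i).nd
  inv := fun i => (hD.minS i).inv
  inv' := fun i => h.inv_perp hP.le (hD.minS i).inv
  le := fun i j hij v hv w hw => hD.orth j i (Ne.symm hij) v hv w hw
  cut := fun i g => hP.cut_mem h (h.isCompl_perp (hD.minS i).nd) (fun u hu w hw => h.refl _ _ (hw u hu)) (hD.minS i).inv
    (h.inv_perp hP.le (hD.minS i).inv) g
  nofix := fun i v hv hvf => by
    have hnd := nd_fix hpF h hP.le hP.isP
    have h1 : v ∈ fixP P ⊓ h.perp (fixP P) := ⟨hvf, hD.le_perp i hv⟩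
    rw [(h.isCompl_perp hnd).inf_eq_bot] at h1
    exact h1
  irr := fun i => by
    rcases (hD.minS i).irr_or_two hpF h hP.le hP.isP with h1 | ⟨M, N, h1⟩
    · refine ⟨D i, le_rfl, h1, fun y hy h2 h3 => ?_⟩
      exact equiv_ext_compl (h.isCompl_perp (hD.minS i).nd) h3 h2
    · refine ⟨M, h1.sup ▸ le_sup_left, h1.irrM, fun y hy h2 h3 => ?_⟩
      refine equiv_ext_compl (h.isCompl_perp (hD.minS i).nd) (fun v hv => ?_) h2
      rw [← h1.sup] at hv
      obtain ⟨m, hm, w, hw, rfl⟩ := Submodule.mem_sup.1 hv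
      rw [map_add, h3 m hm]
      have h4 : y w - w = 0 := by
        refine h1.pN _ (N.sub_mem (h1.irrN.inv y hy w hw) hw) fun m' hm' => ?_
        have h5 := h.pres y (hP.le hy) w m'
        rw [h3 m' hm'] at h5
        rw [h.sub_left, h5, sub_self]
      rw [sub_eq_zero.1 h4]
      rfl

theorem Frm.tot [Finite V] [FiniteDimensional F V] [Fact p.Prime] (hpF : (p : F) ≠ 0) {h : SplF τ B G}
    (hP : Syl p G P) {n : ℕ} {D : Fin n → Submodule F V} (hD : Frm h P D) {y : V ≃ₗ[F] V} (hy : y ∈ P)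
    (h1 : ∀ i, ∀ v ∈ D i, y v = v) : y = 1 := by
  have hnd := nd_fix hpF h hP.le hP.isP
  refine equiv_ext_compl (h.isCompl_perp hnd) (fun v hv => hv y hy) fun w hw => ?_
  rw [← hD.sup] at hw
  have h2 : (⨆ i, D i) ≤ fixP (Subgroup.zpowers y) := by
    refine iSup_le fun i v hv => ?_
    intro g hg
    have h3 : Subgroup.zpowers y ≤ MulAction.stabilizer (V ≃ₗ[F] V) v := (Subgroup.zpowers_le).2 (h1 i v hv)
    exact h3 hg
  exact h2 hw y (Subgroup.mem_zpowers y)

/-- **`N(P)` permutes the blocks** -/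
theorem Frm.perm [Finite V] [FiniteDimensional F V] [Fact p.Prime] (hpF : (p : F) ≠ 0) {h : SplF τ B G}
    (hP : Syl p G P) {n : ℕ} {D : Fin n → Submodule F V} (hD : Frm h P D) {g : V ≃ₗ[F] V} (hgG : g ∈ G)
    (hg : g ∈ Subgroup.normalizer (P : Set (V ≃ₗ[F] V))) (i : Fin n) :
    ∃ j, im g (D i) = D j ∧ ∀ v, v ∈ h.perp (D i) ↔ g v ∈ h.perp (D j) := by
  have hdec := hD.dec hpF hP
  have hU := (hD.minS i).im h hgG hg
  have hUW : im g (D i) ≤ h.perp (fixP P) := by
    rintro _ ⟨d, hd, rfl⟩ f hf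
    have h1 := h.pres g hgG d (g⁻¹ f)
    rw [mul_inv_self_apply] at h1
    change B (g d) f = 0
    rw [h1]
    exact hD.le_perp i hd _ (fix_mem hg hf)
  obtain ⟨j, hj⟩ : ∃ j, im g (D i) ⊓ D j ≠ ⊥ := by
    by_contra hcon
    push Not at hcon
    apply hU.ne
    rw [eq_bot_iff]
    intro u hu
    refine h.nd_perp (nd_fix hpF h hP.le hP.isP) u (hUW hu) fun w hw => ?_
    have h1 : ∀ j, u ∈ h.perp (D j) := by
      intro j
      have hu' : u ∈ D j ⊔ h.perp (D j) := by rw [(hdec.compl j).sup_eq_top]; trivial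
      obtain ⟨a, ha, b, hb, rfl⟩ := Submodule.mem_sup.1 hu'
      have h2 := (hP.comp_mem hpF h (hdec.compl j) (fun u hu w hw => h.refl _ _ (hw u hu)) (hdec.inv j) (hdec.inv' j)
        (hdec.nofix j) hU.inv ha hb hu).1
      have h3 : a ∈ im g (D i) ⊓ D j := ⟨h2, ha⟩
      rw [hcon j] at h3
      have h4 : a = 0 := h3
      rw [h4, zero_add]
      exact hb
    rw [← hD.sup] at hw
    have h2 : (⨆ i, D i) ≤ h.BR u := iSup_le fun j v hv => h1 j v hv
    exact h2 hw
  have hXnd : ND B (im g (D i) ⊓ D j) := by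
    intro v hv hv'
    refine hU.nd v hv.1 fun u hu => ?_
    have hu' : u ∈ D j ⊔ h.perp (D j) := by rw [(hdec.compl j).sup_eq_top]; trivial
    obtain ⟨a, ha, b, hb, rfl⟩ := Submodule.mem_sup.1 hu'
    have h2 := (hP.comp_mem hpF h (hdec.compl j) (fun u hu w hw => h.refl _ _ (hw u hu)) (hdec.inv j) (hdec.inv' j)
      (hdec.nofix j) hU.inv ha hb hu).1
    rw [h.add_right, hv' a ⟨h2, ha⟩, zero_add]
    exact h.refl _ _ (hb v hv.2)
  have hXi := hU.inv.inf (hD.minS j).inv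
  have e1 := (hU.min _ inf_le_left hXi hXnd).resolve_left hj
  have e2 := ((hD.minS j).min _ inf_le_right hXi hXnd).resolve_left hj
  have e3 : im g (D i) = D j := e1.symm.trans e2
  refine ⟨j, e3, fun v => ?_⟩
  constructor
  · intro hv w hw
    rw [← e3] at hw
    obtain ⟨d, hd, rfl⟩ := hw
    exact (h.pres g hgG v d).trans (hv d hd)
  · intro hv d hd
    rw [← h.pres g hgG]
    refine hv _ ?_
    rw [← e3]
    exact apply_mem_im.2 hd

/-- **block generators** -/
theorem SplF.exists_bg [Finite V] [FiniteDimensional F V] [Finite F] [Fact p.Prime] (hp2 : p ≠ 2) (hpF : (p : F) ≠ 0)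
    (h : SplF τ B G) {r s : ℕ} [Fact r.Prime] [CharP F r] (hτ : ∀ a, τ a = a ^ (r ^ s))
    (hP : Syl p G P) (hab : ∀ a ∈ P, ∀ b ∈ P, a * b = b * a) (hnc : ¬ IsCyclic P) {E : ℕ}
    (hE1 : ((Nat.card F : ℕ) : ZMod p) ^ E = 1) (hE2 : (-((r ^ s : ℕ) : ZMod p)) ^ E = 1) :
    ∃ (n : ℕ) (x : Fin n → V ≃ₗ[F] V), 2 ≤ n ∧ BG p G P x E := by
  have hfin : Finite (V ≃ₗ[F] V) := Finite.of_injective (fun g : V ≃ₗ[F] V => (g : V → V)) DFunLike.coe_injective
  obtain ⟨n, D, hD⟩ := hP.exists_frm hpF h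
  have hdec := hD.dec hpF hP
  have hb : Blks p G P (fun i => triv P (h.perp (D i))) E := by
    refine hdec.blks hab ?_ ?_
    · rintro g ⟨hgG, hg⟩ i
      obtain ⟨j, -, hj⟩ := hD.perm hpF hP hgG hg i
      exact ⟨j, hj⟩
    · rintro g ⟨hgG, hg⟩ i h1 z hz t ht
      obtain ⟨j, hj, hj'⟩ := hD.perm hpF hP hgG hg i
      have hji : j = i := by
        by_contra hne
        have h2 : D j ≤ h.perp (D i) := hdec.le i j (Ne.symm hne)
        apply (hD.minS j).ne
        rw [eq_bot_iff, ← (hdec.compl j).inf_eq_bot]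
        refine le_inf le_rfl fun v hv => ?_
        have h3 := h2 hv
        have h4 : g⁻¹ v ∈ h.perp (D i) := by rw [h1, mul_inv_self_apply]; exact h3
        rw [hj', mul_inv_self_apply] at h4
        exact h4
      subst hji
      have hzQ : z ∈ triv P (h.perp (D j)) := by rw [hz]; exact Subgroup.mem_zpowers z
      have hz1 : z ≠ 1 := by
        intro h2
        apply hdec.ne j
        rw [hz, h2, Subgroup.zpowers_one_eq_bot]
      have hdvd := dvd_orderOf hP.isP hzQ.1 hz1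
      have hgen : ∀ M ≤ D j, Irr P M → ∀ X : Submodule F V, X ≤ M → (∀ m ∈ X, z m ∈ X) → X = ⊥ ∨ X = M :=
        fun M hMD hM X hX hXz => hdec.irr_gen hMD hM hz hX hXz
      have same : ∀ M ≤ D j, Irr P M → (∀ y ∈ P, (∀ v ∈ h.perp (D j), y v = v) → (∀ v ∈ M, y v = v) → y = 1) →
          im g M = M → (t : ZMod p) ^ E = 1 := by
        intro M hMD hM hf hgM
        obtain ⟨k, hk⟩ := exp_same (fun m hm => hM.inv z hzQ.1 m hm) hM.ne (hgen M hMD hM)
          (fun m hm => by rw [← hgM] at hm; exact mem_im.1 hm) ht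
        have h2 : z ^ t * (z ^ (Nat.card F ^ k))⁻¹ = 1 := by
          refine hf _ (P.mul_mem (P.pow_mem hzQ.1 _) (P.inv_mem (P.pow_mem hzQ.1 _))) (fun v hv => ?_) fun v hv => ?_
          · have h3 : z ^ t * (z ^ (Nat.card F ^ k))⁻¹ ∈ triv P (h.perp (D j)) :=
              Subgroup.mul_mem _ (Subgroup.pow_mem _ hzQ _) (Subgroup.inv_mem _ (Subgroup.pow_mem _ hzQ _))
            exact h3.2 v hv
          · rw [LinearEquiv.mul_apply, hk _ (hM.inv _ (P.inv_mem (P.pow_mem hzQ.1 _)) v hv), mul_inv_self_apply]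
        have h3 := zpow_eq_of_gen hdvd (mul_inv_eq_one.1 h2)
        rw [h3, Nat.cast_pow, ← pow_mul, mul_comm, pow_mul, hE1, one_pow]
      rcases (hD.minS j).irr_or_two hpF h hP.le hP.isP with h2 | ⟨M, N, h2⟩
      · exact same (D j) le_rfl h2 (fun y hy h3 h4 => equiv_ext_compl (hdec.compl j) h4 h3) hj
      · have hMD : M ≤ D j := h2.sup ▸ le_sup_left
        have hND : N ≤ D j := h2.sup ▸ le_sup_right
        have hf : ∀ y ∈ P, (∀ v ∈ h.perp (D j), y v = v) → (∀ v ∈ M, y v = v) → y = 1 := by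
          intro y hy h3 h4
          refine equiv_ext_compl (hdec.compl j) (fun v hv => ?_) h3
          rw [← h2.sup] at hv
          obtain ⟨m, hm, w, hw, rfl⟩ := Submodule.mem_sup.1 hv
          rw [map_add, h4 m hm]
          have h5 : y w - w = 0 := by
            refine h2.pN _ (N.sub_mem (h2.irrN.inv y hy w hw) hw) fun m' hm' => ?_
            have h6 := h.pres y (hP.le hy) w m'
            rw [h4 m' hm'] at h6
            rw [h.sub_left, h6, sub_self]
          rw [sub_eq_zero.1 h5]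
          rfl
        have hgM : im g M ≤ D j := by
          rw [← hj]
          exact Submodule.map_mono hMD
        rcases Two.unique hp2 hpF h hP.le hP.isP (hD.minS j) (hdec.nofix j) h2 hgM (h2.irrM.im hg) with h3 | h3
        · exact same M hMD h2.irrM hf h3
        · -- `g M = N`
          have ht' : z ^ ((orderOf z - 1) * t) * z ^ t = 1 := by
            rw [← pow_add]
            have h4 : (orderOf z - 1) * t + t = orderOf z * t := by
              have h5 : 0 < orderOf z := orderOf_pos z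
              rw [← Nat.succ_mul]
              congr 1
              omega
            rw [h4, pow_mul, pow_orderOf_eq_one, one_pow]
          set t' := (orderOf z - 1) * t
          obtain ⟨k, hk⟩ := exp_dual h hτ (hP.le hzQ.1) (fun m hm => h2.irrM.inv z hzQ.1 m hm) h2.irrM.ne
            (hgen M hMD h2.irrM) h2.pM (fun n hn => by rw [← h3] at hn; exact mem_im.1 hn) ht ht'
          have h4 : z ^ t' * (z ^ (r ^ s * Nat.card F ^ k))⁻¹ = 1 := by
            refine hf _ (P.mul_mem (P.pow_mem hzQ.1 _) (P.inv_mem (P.pow_mem hzQ.1 _))) (fun v hv => ?_) fun v hv => ?_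
            · have h3 : z ^ t' * (z ^ (r ^ s * Nat.card F ^ k))⁻¹ ∈ triv P (h.perp (D j)) :=
                Subgroup.mul_mem _ (Subgroup.pow_mem _ hzQ _) (Subgroup.inv_mem _ (Subgroup.pow_mem _ hzQ _))
              exact h3.2 v hv
            · rw [LinearEquiv.mul_apply, hk _ (h2.irrM.inv _ (P.inv_mem (P.pow_mem hzQ.1 _)) v hv), mul_inv_self_apply]
          have h5 := zpow_eq_of_gen hdvd (mul_inv_eq_one.1 h4)
          have h6 : ((t' + t : ℕ) : ZMod p) = 0 := by
            rw [ZMod.natCast_eq_zero_iff]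
            refine hdvd.trans (orderOf_dvd_of_pow_eq_one ?_)
            rw [pow_add, ht']
          rw [Nat.cast_add] at h6
          have h7 : (t : ZMod p) = -((r ^ s : ℕ) : ZMod p) * (Nat.card F : ZMod p) ^ k := by
            rw [eq_neg_of_add_eq_zero_right h6, h5, Nat.cast_mul, Nat.cast_pow (Nat.card F)]
            ring
          rw [h7, mul_pow, hE2, one_mul, ← pow_mul, mul_comm k E, pow_mul, hE1, one_pow]
  obtain ⟨x, hx, -⟩ := hb.exists_bg hP.isP
  exact ⟨n, x, hdec.two_le hab (fun y hy h1 => hD.tot hpF hP hy h1) hnc, hx⟩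

end form

end Cfsg.Agent.H324.AP
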