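import Cfsg.Agent.H324.AP.BG
import Cfsg.Agent.H603.AP.Rank

/-!
# S4791, S4927, classical rows: invariant forms from block generators (helper324)

`exists_forms` : `P` a Sylow `p`-subgroup with at least two block generators (`BG p ⊤ P x E`), `c E = p - 1`, `c ≥ 2`: there are
`(c + 1) / 2` linearly independent `N(P)`-invariant forms of degree `p - 1 - E`.
-/

set_option autoImplicit false
set_option linter.unusedSectionVars false

namespace Cfsg.Agent.H324.AP

open Cfsg.Agent.H603.AP

universe u v

variable {p : ℕ} [hp : Fact p.Prime] {G : Type u} [Group G] [Finite G] {P : Sylow p G} {ι : Type v} [Fintype ι] {x : ι → G}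
  {E : ℕ}

/-- power sums -/
def psum (h : BG p ⊤ (P : Subgroup G) x E) (k : ℕ) : LL p P → ZMod p := fun l => ∑ i, ev l ⟨x i, h.mem i⟩ ^ (k * E)

theorem psum_mem (h : BG p ⊤ (P : Subgroup G) x E) (k : ℕ) : psum h k ∈ Pol p P (k * E) := by
  have h1 : psum h k = ∑ i, (fun l : LL p P => ev l ⟨x i, h.mem i⟩) ^ (k * E) := by
    funext l
    rw [Finset.sum_apply]
    rfl
  rw [h1]
  refine Submodule.sum_mem _ fun i _ => ?_
  have h2 := Pol_pow (ev_mem (p := p) (⟨x i, h.mem i⟩ : P)) (k * E)
  rwa [mul_one] at h2

theorem psum_inv (h : BG p ⊤ (P : Subgroup G) x E) (k : ℕ) : WInv P (psum h k) := by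
  intro n hn l l' hl
  obtain ⟨σ, hσ⟩ := h.act n ⟨trivial, hn⟩
  symm
  refine Fintype.sum_equiv σ _ _ fun i => ?_
  obtain ⟨t, ht, h1⟩ := hσ i
  have h2 := hl ⟨x i, h.mem i⟩ (⟨x (σ i), h.mem (σ i)⟩ ^ t) h1
  rw [ev_pow] at h2
  rw [← h2, mul_pow, mul_comm k E, pow_mul (t : ZMod p), ht, one_pow, one_mul]

theorem exists_forms [Nontrivial ι] {c : ℕ} (hE : 1 ≤ E) (hcE : c * E = p - 1) (hc2 : 2 ≤ c) (hp2 : p ≠ 2)
    (h : BG p ⊤ (P : Subgroup G) x E) :
    ∃ f : Fin ((c + 1) / 2) → LL p P → ZMod p, LinearIndependent (ZMod p) f ∧ (∀ i, f i ∈ Pol p P (p - 1 - E)) ∧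
      ∀ i, WInv P (f i) := by
  classical
  have hp3 := hp.out.two_le
  have hdeg : p - 1 - E = (c - 1) * E := by
    rw [← hcE, Nat.sub_mul, one_mul]
  have h20 : (2 : ZMod p) ≠ 0 := by
    intro h0
    have h1 : ((2 : ℕ) : ZMod p) = 0 := by exact_mod_cast h0
    rw [ZMod.natCast_eq_zero_iff] at h1
    exact hp2 ((Nat.prime_dvd_prime_iff_eq hp.out Nat.prime_two).1 h1)
  let f : Fin ((c + 1) / 2) → LL p P → ZMod p := fun j =>
    if (j : ℕ) = 0 then psum h (c - 1) else psum h (c - 1 - j) * psum h j
  refine ⟨f, ?_, fun j => ?_, fun j => ?_⟩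
  · rw [Fintype.linearIndependent_iff]
    intro α hα
    obtain ⟨i₀, i₁, hne⟩ := exists_pair_ne ι
    have hev : ∀ u : ZMod p, ∃ l : LL p P, ∀ k, 1 ≤ k → psum h k l = u ^ (k * E) + 1 := by
      intro u
      obtain ⟨l, hl⟩ := h.free fun i => if i = i₀ then u else if i = i₁ then 1 else 0
      refine ⟨l, fun k hk => ?_⟩
      have hl' : ∀ i, ev l ⟨x i, h.mem i⟩ = if i = i₀ then u else if i = i₁ then 1 else 0 := hl
      have hkE : k * E ≠ 0 := Nat.mul_ne_zero (by omega) (by omega)
      unfold psum
      rw [Finset.sum_eq_add i₀ i₁ hne]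
      · rw [hl', hl', if_pos rfl, if_neg hne.symm, if_pos rfl, one_pow]
      · intro i _ hi
        rw [hl', if_neg hi.1, if_neg hi.2, zero_pow hkE]
      · intro h1; exact absurd (Finset.mem_univ _) h1
      · intro h1; exact absurd (Finset.mem_univ _) h1
    -- the polynomial
    let Φ : Polynomial (ZMod p) := ∑ j : Fin ((c + 1) / 2), Polynomial.C (α j) *
      (if (j : ℕ) = 0 then Polynomial.X ^ ((c - 1) * E) + 1 else
        Polynomial.X ^ ((c - 1) * E) + 1 + Polynomial.X ^ ((c - 1 - (j : ℕ)) * E) + Polynomial.X ^ ((j : ℕ) * E))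
    have hlt : ∀ j : Fin ((c + 1) / 2), 2 * (j : ℕ) ≤ c - 1 := fun j => by
      have := j.2
      omega
    have hΦ : ∀ u : ZMod p, Φ.eval u = 0 := by
      intro u
      obtain ⟨l, hl⟩ := hev u
      have h1 := congrFun hα l
      rw [Finset.sum_apply] at h1
      rw [Pi.zero_apply] at h1
      rw [← h1]
      simp only [Φ]
      rw [Polynomial.eval_finsetSum]
      refine Finset.sum_congr rfl fun j _ => ?_
      rw [Polynomial.eval_mul, Polynomial.eval_C, Pi.smul_apply, smul_eq_mul]
      congr 1
      simp only [f]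
      by_cases hj : (j : ℕ) = 0
      · rw [if_pos hj, if_pos hj, hl (c - 1) (by omega)]
        simp
      · have hj2 := hlt j
        rw [if_neg hj, if_neg hj, Pi.mul_apply, hl _ (by omega), hl _ (by omega)]
        have h2 : (c - 1) * E = (c - 1 - (j : ℕ)) * E + (j : ℕ) * E := by
          rw [← add_mul]
          congr 1
          omega
        simp only [h2, pow_add, Polynomial.eval_add, Polynomial.eval_mul, Polynomial.eval_pow, Polynomial.eval_X,
          Polynomial.eval_one]
        ring
    have hΦ0 : Φ = 0 := by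
      refine Polynomial.eq_zero_of_natDegree_lt_card_of_eval_eq_zero Φ (f := fun u : ZMod p => u) (fun a b hab => hab) hΦ ?_
      rw [ZMod.card]
      refine lt_of_le_of_lt (?_ : _ ≤ (c - 1) * E) ?_
      · refine Polynomial.natDegree_sum_le_of_forall_le _ _ fun j _ => ?_
        refine (Polynomial.natDegree_C_mul_le _ _).trans ?_
        have h1 : (c - 1 - (j : ℕ)) * E ≤ (c - 1) * E := Nat.mul_le_mul_right _ (by omega)
        have h2 : (j : ℕ) * E ≤ (c - 1) * E := Nat.mul_le_mul_right _ (by have := hlt j; omega)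
        split_ifs
        · refine (Polynomial.natDegree_add_le _ _).trans (max_le ?_ ?_)
          · exact Polynomial.natDegree_X_pow_le _
          · rw [Polynomial.natDegree_one]; exact Nat.zero_le _
        · refine (Polynomial.natDegree_add_le _ _).trans (max_le ?_ ?_)
          · refine (Polynomial.natDegree_add_le _ _).trans (max_le ?_ ?_)
            · refine (Polynomial.natDegree_add_le _ _).trans (max_le ?_ ?_)
              · exact Polynomial.natDegree_X_pow_le _
              · rw [Polynomial.natDegree_one]; exact Nat.zero_le _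
            · exact (Polynomial.natDegree_X_pow_le _).trans h1
          · exact (Polynomial.natDegree_X_pow_le _).trans h2
      · rw [← hdeg]
        omega
    have hkey : ∀ j : Fin ((c + 1) / 2), (j : ℕ) ≠ 0 → α j = 0 := by
      intro k hk
      have hk2 := hlt k
      have h1 := congrArg (fun q => Polynomial.coeff q ((k : ℕ) * E)) hΦ0
      simp only [Φ, Polynomial.finsetSum_coeff, Polynomial.coeff_C_mul, Polynomial.coeff_zero] at h1
      have hinj : ∀ a b : ℕ, a * E = b * E ↔ a = b := fun a b => Nat.mul_right_cancel_iff (by omega)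
      rw [Finset.sum_eq_single k] at h1
      · rw [if_neg hk] at h1
        simp only [Polynomial.coeff_add, Polynomial.coeff_X_pow, Polynomial.coeff_one, hinj] at h1
        rw [if_neg (by omega : ¬ (k : ℕ) = c - 1), if_neg (Nat.mul_ne_zero hk (by omega)), if_pos trivial] at h1
        split_ifs at h1
        · rw [zero_add, zero_add, one_add_one_eq_two] at h1
          exact (mul_eq_zero.1 h1).resolve_right h20
        · rw [zero_add, zero_add, zero_add, mul_one] at h1
          exact h1
      · intro j _ hjk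
        have hj2 := hlt j
        have hjk' : (k : ℕ) ≠ j := fun h2 => hjk (Fin.ext h2.symm)
        split_ifs with hj
        · simp only [Polynomial.coeff_add, Polynomial.coeff_X_pow, Polynomial.coeff_one, hinj]
          rw [if_neg (by omega : ¬ (k : ℕ) = c - 1), if_neg (Nat.mul_ne_zero hk (by omega))]
          simp
        · simp only [Polynomial.coeff_add, Polynomial.coeff_X_pow, Polynomial.coeff_one, hinj]
          rw [if_neg (by omega : ¬ (k : ℕ) = c - 1), if_neg (Nat.mul_ne_zero hk (by omega)), if_neg hjk', if_neg (by omega)]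
          simp
      · intro h2
        exact absurd (Finset.mem_univ _) h2
    intro j
    by_cases hj : (j : ℕ) = 0
    · have h1 := congrArg (fun q => Polynomial.coeff q 0) hΦ0
      simp only [Φ, Polynomial.finsetSum_coeff, Polynomial.coeff_C_mul, Polynomial.coeff_zero] at h1
      rw [Finset.sum_eq_single j] at h1
      · rw [if_pos hj] at h1
        simp only [Polynomial.coeff_add, Polynomial.coeff_X_pow, Polynomial.coeff_one] at h1
        rw [if_neg (Nat.mul_ne_zero (by omega) (by omega) : (c - 1) * E ≠ 0).symm, zero_add] at h1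
        simpa using h1
      · intro i _ hij
        rw [hkey i (fun h2 => hij (Fin.ext (h2.trans hj.symm))), zero_mul]
      · intro h2
        exact absurd (Finset.mem_univ _) h2
    · exact hkey j hj
  · simp only [f]
    rw [hdeg]
    split_ifs with hj
    · exact psum_mem h _
    · have h1 := Pol_mul (psum_mem h (c - 1 - j)) (psum_mem h j)
      have h2 : (c - 1 - (j : ℕ)) * E + (j : ℕ) * E = (c - 1) * E := by
        rw [← add_mul]
        congr 1
        have := j.2
        omega
      rwa [h2] at h1
  · simp only [f]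
    split_ifs with hj
    · exact psum_inv h _
    · intro n hn l l' hl
      rw [Pi.mul_apply, Pi.mul_apply, psum_inv h _ n hn l l' hl, psum_inv h _ n hn l l' hl]

end Cfsg.Agent.H324.AP
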