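import Mathlib

/-!
# S4791, S4927, classical rows: the frame of a Sylow `p`-subgroup (helper324)

`SplF τ B G`: `B` is a reflexive nondegenerate sesquilinear form on `V`, `G` a group of isometries which contains `g|_U + 1_W`
for `g ∈ G` and every `g`-invariant orthogonal decomposition `V = U + W`.  `Syl p G P`: `P` is a maximal `p`-subgroup of `G`.

* `Syl.cut_mem` : `g|_U + 1_W ∈ P` for every `P`-invariant orthogonal decomposition `V = U + W` and `g ∈ P`;
* `Syl.comp_mem` : `P`-invariant subspaces are compatible with `P`-invariant orthogonal decompositions `V = U + W`, `C_U(P) = 0`.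
-/

set_option autoImplicit false

namespace Cfsg.Agent.H324.AP

open Submodule Module

universe u v

variable {F : Type u} [Field F] {V : Type v} [AddCommGroup V] [Module F V]

/-- see the header -/
structure SplF (τ : F →+* F) (B : V → V → F) (G : Subgroup (V ≃ₗ[F] V)) : Prop where
  add_left : ∀ u v w, B (u + v) w = B u w + B v w
  add_right : ∀ u v w, B u (v + w) = B u v + B u w
  smul_left : ∀ (a : F) u v, B (a • u) v = a * B u v
  smul_right : ∀ (a : F) u v, B u (a • v) = τ a * B u v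
  refl : ∀ u v, B u v = 0 → B v u = 0
  nd : ∀ u, (∀ v, B u v = 0) → u = 0
  pres : ∀ g ∈ G, ∀ u v, B (g u) (g v) = B u v
  split : ∀ g ∈ G, ∀ g' : V ≃ₗ[F] V, ∀ U W : Submodule F V, U ⊔ W = ⊤ → (∀ u ∈ U, ∀ w ∈ W, B u w = 0) →
    (∀ u ∈ U, g u ∈ U) → (∀ u ∈ U, g' u = g u) → (∀ w ∈ W, g' w = w) → g' ∈ G

/-- invariant subspaces -/
def Inv (P : Subgroup (V ≃ₗ[F] V)) (W : Submodule F V) : Prop := ∀ g ∈ P, ∀ w ∈ W, g w ∈ W

/-- the fixed space -/
def fixP (P : Subgroup (V ≃ₗ[F] V)) : Submodule F V where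
  carrier := {v | ∀ g ∈ P, g v = v}
  add_mem' := fun hu hv g hg => by rw [map_add, hu g hg, hv g hg]
  zero_mem' := fun g _ => map_zero g
  smul_mem' := fun a v hv g hg => by rw [map_smul, hv g hg]

theorem mem_fixP {P : Subgroup (V ≃ₗ[F] V)} {v : V} : v ∈ fixP P ↔ ∀ g ∈ P, g v = v := Iff.rfl

theorem inv_fixP (P : Subgroup (V ≃ₗ[F] V)) : Inv P (fixP P) := fun g hg w hw => by rw [hw g hg]; exact hw

theorem Inv.inf {P : Subgroup (V ≃ₗ[F] V)} {U W : Submodule F V} (hU : Inv P U) (hW : Inv P W) : Inv P (U ⊓ W) :=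
  fun g hg w hw => ⟨hU g hg w hw.1, hW g hg w hw.2⟩

theorem Inv.sup {P : Subgroup (V ≃ₗ[F] V)} {U W : Submodule F V} (hU : Inv P U) (hW : Inv P W) : Inv P (U ⊔ W) := by
  intro g hg w hw
  obtain ⟨a, ha, b, hb, rfl⟩ := Submodule.mem_sup.1 hw
  rw [map_add]
  exact Submodule.add_mem_sup (hU g hg a ha) (hW g hg b hb)

theorem Inv.mem_iff {P : Subgroup (V ≃ₗ[F] V)} {W : Submodule F V} (hW : Inv P W) {g : V ≃ₗ[F] V} (hg : g ∈ P) {w : V} :
    g w ∈ W ↔ w ∈ W := by
  refine ⟨fun h => ?_, hW g hg w⟩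
  have h1 := hW g⁻¹ (P.inv_mem hg) _ h
  have h2 : g⁻¹ (g w) = w := LinearEquiv.symm_apply_apply g w
  rwa [h2] at h1

section form

variable {τ : F →+* F} {B : V → V → F} {G : Subgroup (V ≃ₗ[F] V)}

theorem SplF.zero_left (h : SplF τ B G) (v : V) : B 0 v = 0 := by
  have h1 := h.smul_left 0 0 v
  rwa [zero_smul, zero_mul] at h1

theorem SplF.zero_right (h : SplF τ B G) (v : V) : B v 0 = 0 := h.refl _ _ (h.zero_left v)

theorem SplF.neg_left (h : SplF τ B G) (u v : V) : B (-u) v = -B u v := by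
  have h1 := h.smul_left (-1) u v
  rwa [neg_one_smul, neg_one_mul] at h1

theorem SplF.sub_left (h : SplF τ B G) (u v w : V) : B (u - v) w = B u w - B v w := by
  rw [sub_eq_add_neg, h.add_left, h.neg_left, sub_eq_add_neg]

/-- the orthogonal space -/
def SplF.perp (h : SplF τ B G) (W : Submodule F V) : Submodule F V where
  carrier := {v | ∀ w ∈ W, B v w = 0}
  add_mem' := fun hu hv w hw => by rw [h.add_left, hu w hw, hv w hw, add_zero]
  zero_mem' := fun w _ => h.zero_left w
  smul_mem' := fun a v hv w hw => by rw [h.smul_left, hv w hw, mul_zero]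

theorem SplF.mem_perp (h : SplF τ B G) {W : Submodule F V} {v : V} : v ∈ h.perp W ↔ ∀ w ∈ W, B v w = 0 := Iff.rfl

/-- `{x | B u x = 0}` -/
def SplF.BR (h : SplF τ B G) (u : V) : Submodule F V where
  carrier := {x | B u x = 0}
  add_mem' := fun {x y} hx hy => by
    change B u (x + y) = 0
    rw [h.add_right, show B u x = 0 from hx, show B u y = 0 from hy, add_zero]
  zero_mem' := h.zero_right u
  smul_mem' := fun a x hx => by
    change B u (a • x) = 0
    rw [h.smul_right, show B u x = 0 from hx, mul_zero]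

/-- nondegenerate subspaces -/
def ND (B : V → V → F) (W : Submodule F V) : Prop := ∀ v ∈ W, (∀ w ∈ W, B v w = 0) → v = 0

theorem SplF.le_perp_perp (h : SplF τ B G) (W : Submodule F V) : W ≤ h.perp (h.perp W) :=
  fun w hw v hv => h.refl _ _ (hv w hw)

theorem SplF.exists_proj [FiniteDimensional F V] (h : SplF τ B G) {W : Submodule F V} (hW : ND B W) (v : V) :
    ∃ w ∈ W, v - w ∈ h.perp W := by
  let b := Module.finBasis F W
  let Φ : W →ₗ[F] (Fin (finrank F W) → F) :=
    { toFun := fun w i => B (w : V) (b i : V)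
      map_add' := fun x y => by
        funext i
        exact h.add_left _ _ _
      map_smul' := fun a x => by
        funext i
        exact h.smul_left _ _ _ }
  have hb : ∀ u : V, (∀ i, B u (b i : V) = 0) → ∀ w ∈ W, B u w = 0 := by
    intro u hu w hw
    have h1 : w ∈ h.BR u := by
      have h2 := congrArg W.subtype (b.sum_repr ⟨w, hw⟩)
      rw [map_sum] at h2
      change W.subtype (⟨w, hw⟩ : W) ∈ h.BR u
      rw [← h2]
      refine Submodule.sum_mem _ fun i _ => ?_
      rw [map_smul]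
      exact Submodule.smul_mem _ _ (hu i)
    exact h1
  have hinj : Function.Injective Φ := by
    rw [← LinearMap.ker_eq_bot, LinearMap.ker_eq_bot']
    intro w hw
    refine Subtype.ext (hW w w.2 (hb w fun i => ?_))
    exact congrFun hw i
  have hsurj : Function.Surjective Φ := by
    rw [← LinearMap.injective_iff_surjective_of_finrank_eq_finrank]
    · exact hinj
    · rw [Module.finrank_fin_fun]
  obtain ⟨w, hw⟩ := hsurj fun i => B v (b i : V)
  refine ⟨w, w.2, fun w' hw' => hb _ (fun i => ?_) w' hw'⟩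
  rw [h.sub_left, ← congrFun hw i]
  exact sub_self _

theorem SplF.isCompl_perp [FiniteDimensional F V] (h : SplF τ B G) {W : Submodule F V} (hW : ND B W) :
    IsCompl W (h.perp W) := by
  refine ⟨?_, ?_⟩
  · rw [disjoint_iff, eq_bot_iff]
    rintro v ⟨hv, hv'⟩
    exact hW v hv hv'
  · rw [codisjoint_iff, eq_top_iff]
    intro v _
    obtain ⟨w, hw, hvw⟩ := h.exists_proj hW v
    rw [← add_sub_cancel w v]
    exact Submodule.add_mem_sup hw hvw

theorem SplF.nd_perp [FiniteDimensional F V] (h : SplF τ B G) {W : Submodule F V} (hW : ND B W) :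
    ND B (h.perp W) := by
  intro v hv hv'
  refine h.nd v fun u => ?_
  have hu : u ∈ W ⊔ h.perp W := by rw [(h.isCompl_perp hW).sup_eq_top]; trivial
  obtain ⟨w, hw, x, hx, rfl⟩ := Submodule.mem_sup.1 hu
  rw [h.add_right, hv w hw, hv' x hx, add_zero]

theorem SplF.inv_perp (h : SplF τ B G) {P : Subgroup (V ≃ₗ[F] V)} (hP : P ≤ G) {W : Submodule F V} (hW : Inv P W) :
    Inv P (h.perp W) := by
  intro g hg v hv w hw
  have h1 := hW g⁻¹ (P.inv_mem hg) w hw
  have h2 := h.pres g (hP hg) v (g⁻¹ w)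
  have h3 : g (g⁻¹ w) = w := LinearEquiv.apply_symm_apply g w
  rw [h3] at h2
  rw [h2]
  exact hv _ h1

theorem SplF.isCompl_of_orth (h : SplF τ B G) {U W : Submodule F V} (hUW : U ⊔ W = ⊤)
    (ho : ∀ u ∈ U, ∀ w ∈ W, B u w = 0) : IsCompl U W := by
  refine ⟨?_, codisjoint_iff.2 hUW⟩
  rw [disjoint_iff, eq_bot_iff]
  rintro v ⟨hv, hv'⟩
  refine h.nd v fun x => ?_
  have hx : x ∈ U ⊔ W := by rw [hUW]; trivial
  obtain ⟨u, hu, w, hw, rfl⟩ := Submodule.mem_sup.1 hx
  rw [h.add_right, ho v hv w hw, add_zero]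
  exact h.refl _ _ (ho u hu v hv')

end form

section avg

variable {P : Subgroup (V ≃ₗ[F] V)}

/-- the sum over `P` -/
def avg (P : Subgroup (V ≃ₗ[F] V)) [Fintype P] (v : V) : V := ∑ g : P, (g : V ≃ₗ[F] V) v

theorem avg_fix [Fintype P] (v : V) : avg P v ∈ fixP P := by
  intro g hg
  unfold avg
  rw [map_sum]
  exact Fintype.sum_equiv (Equiv.mulLeft (⟨g, hg⟩ : P)) _ _ fun x => rfl

theorem avg_mem [Fintype P] {W : Submodule F V} (hW : Inv P W) {v : V} (hv : v ∈ W) : avg P v ∈ W :=
  Submodule.sum_mem _ fun g _ => hW g g.2 v hv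

theorem avg_of_fix [Fintype P] {v : V} (hv : v ∈ fixP P) : avg P v = (Fintype.card P : F) • v := by
  unfold avg
  rw [Finset.sum_congr rfl fun (g : P) _ => hv g.1 g.2, Finset.sum_const, Finset.card_univ, Nat.cast_smul_eq_nsmul]

theorem avg_add [Fintype P] (u v : V) : avg P (u + v) = avg P u + avg P v := by
  unfold avg
  rw [← Finset.sum_add_distrib]
  exact Finset.sum_congr rfl fun g _ => map_add _ _ _

end avg

/-- maximal `p`-subgroups -/
structure Syl (p : ℕ) (G P : Subgroup (V ≃ₗ[F] V)) : Prop where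
  le : P ≤ G
  isP : IsPGroup p P
  max : ∀ Q : Subgroup (V ≃ₗ[F] V), Q ≤ G → IsPGroup p Q → P ≤ Q → Q = P

section cut

variable {U W : Submodule F V}

/-- `g|_U + 1_W` -/
noncomputable def cutL (h : IsCompl U W) (g : V ≃ₗ[F] V) : Module.End F V :=
  (g : V →ₗ[F] V) ∘ₗ U.projection W h + W.projection U h.symm

theorem cutL_left (h : IsCompl U W) (g : V ≃ₗ[F] V) {u : V} (hu : u ∈ U) : cutL h g u = g u := by
  unfold cutL
  rw [LinearMap.add_apply, LinearMap.comp_apply, projection_apply_of_mem_left h hu,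
    (projection_apply_eq_zero_iff h.symm).2 hu, add_zero]
  rfl

theorem cutL_right (h : IsCompl U W) (g : V ≃ₗ[F] V) {w : V} (hw : w ∈ W) : cutL h g w = w := by
  unfold cutL
  rw [LinearMap.add_apply, LinearMap.comp_apply, projection_apply_of_mem_left h.symm hw,
    (projection_apply_eq_zero_iff h).2 hw, map_zero, zero_add]

theorem ext_compl (h : IsCompl U W) {f g : Module.End F V} (hU : ∀ u ∈ U, f u = g u) (hW : ∀ w ∈ W, f w = g w) :
    f = g := by
  apply LinearMap.ext
  intro v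
  have hv : v ∈ U ⊔ W := by rw [h.sup_eq_top]; trivial
  obtain ⟨u, hu, w, hw, rfl⟩ := Submodule.mem_sup.1 hv
  rw [map_add, map_add, hU u hu, hW w hw]

/-- `g ↦ g|_U + 1_W` as a homomorphism -/
noncomputable def cutH (h : IsCompl U W) {P : Subgroup (V ≃ₗ[F] V)} (hU : Inv P U) : P →* (V ≃ₗ[F] V) :=
  (LinearMap.GeneralLinearGroup.generalLinearEquiv F V).toMonoidHom.comp
    (MonoidHom.toHomUnits
      { toFun := fun g : P => cutL h (g : V ≃ₗ[F] V)
        map_one' := ext_compl h (fun u hu => by rw [cutL_left h _ hu]; rfl) fun w hw => by rw [cutL_right h _ hw]; rfl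
        map_mul' := fun a b => ext_compl h
          (fun u hu => by
            rw [Module.End.mul_apply, cutL_left h _ hu, cutL_left h _ hu, cutL_left h _ (hU _ b.2 _ hu)]
            rfl)
          (fun w hw => by
            rw [Module.End.mul_apply, cutL_right h _ hw, cutL_right h _ hw, cutL_right h _ hw]) })

theorem cutH_apply (h : IsCompl U W) {P : Subgroup (V ≃ₗ[F] V)} (hU : Inv P U) (g : P) (v : V) :
    cutH h hU g v = cutL h (g : V ≃ₗ[F] V) v := rfl

theorem cutH_left (h : IsCompl U W) {P : Subgroup (V ≃ₗ[F] V)} (hU : Inv P U) (g : P) {u : V} (hu : u ∈ U) :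
    cutH h hU g u = (g : V ≃ₗ[F] V) u := by rw [cutH_apply, cutL_left h _ hu]

theorem cutH_right (h : IsCompl U W) {P : Subgroup (V ≃ₗ[F] V)} (hU : Inv P U) (g : P) {w : V} (hw : w ∈ W) :
    cutH h hU g w = w := by rw [cutH_apply, cutL_right h _ hw]

theorem equiv_ext_compl (h : IsCompl U W) {f g : V ≃ₗ[F] V} (hU : ∀ u ∈ U, f u = g u) (hW : ∀ w ∈ W, f w = g w) :
    f = g := by
  apply LinearEquiv.toLinearMap_injective
  exact ext_compl h hU hW

end cut

section syl

variable {τ : F →+* F} {B : V → V → F} {G P : Subgroup (V ≃ₗ[F] V)} {p : ℕ}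

/-- **(A)**: the range of `cutH` lies in `P` -/
theorem Syl.range_le [Fact p.Prime] (h : SplF τ B G) (hP : Syl p G P) {U W : Submodule F V} (hUW : IsCompl U W)
    (ho : ∀ u ∈ U, ∀ w ∈ W, B u w = 0) (hU : Inv P U) (hW : Inv P W) : (cutH hUW hU).range ≤ P := by
  have h1 : (cutH hUW hU).range ≤ G := by
    rintro _ ⟨g, rfl⟩
    exact h.split _ (hP.le g.2) _ U W hUW.sup_eq_top ho (fun u hu => hU _ g.2 u hu)
      (fun u hu => cutH_left hUW hU g hu) fun w hw => cutH_right hUW hU g hw
  have h2 : IsPGroup p (cutH hUW hU).range := by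
    rw [MonoidHom.range_eq_map]
    exact (IsPGroup.to_le hP.isP le_rfl |>.to_subgroup ⊤).map _
  have h3 : P ≤ Subgroup.normalizer ((cutH hUW hU).range : Set (V ≃ₗ[F] V)) := by
    intro x hx
    have key : ∀ x ∈ P, ∀ y ∈ (cutH hUW hU).range, x * y * x⁻¹ ∈ (cutH hUW hU).range := by
      rintro x hx _ ⟨g, rfl⟩
      refine ⟨⟨x, hx⟩ * g * ⟨x, hx⟩⁻¹, ?_⟩
      refine equiv_ext_compl hUW (fun u hu => ?_) fun w hw => ?_
      · rw [cutH_left hUW hU _ hu, LinearEquiv.mul_apply, LinearEquiv.mul_apply,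
          cutH_left hUW hU g (hU _ (P.inv_mem hx) u hu)]
        rfl
      · rw [cutH_right hUW hU _ hw, LinearEquiv.mul_apply, LinearEquiv.mul_apply,
          cutH_right hUW hU g (hW _ (P.inv_mem hx) w hw)]
        exact (LinearEquiv.apply_symm_apply x w).symm
    rw [Subgroup.mem_normalizer_iff]
    intro y
    refine ⟨fun hy => key x hx y hy, fun hy => ?_⟩
    have h4 := key x⁻¹ (P.inv_mem hx) _ hy
    have h5 : x⁻¹ * (x * y * x⁻¹) * x⁻¹⁻¹ = y := by group
    rwa [h5] at h4
  have h4 : IsPGroup p (P ⊔ (cutH hUW hU).range : Subgroup (V ≃ₗ[F] V)) :=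
    IsPGroup.to_sup_of_normal_right' hP.isP h2 h3
  have h5 := hP.max _ (sup_le hP.le h1) h4 le_sup_left
  exact le_sup_right.trans h5.le

theorem Syl.cut_mem [Fact p.Prime] (h : SplF τ B G) (hP : Syl p G P) {U W : Submodule F V} (hUW : IsCompl U W)
    (ho : ∀ u ∈ U, ∀ w ∈ W, B u w = 0) (hU : Inv P U) (hW : Inv P W) (g : P) : cutH hUW hU g ∈ P :=
  hP.range_le h hUW ho hU hW ⟨g, rfl⟩

/-- **(C)**: invariant subspaces are compatible with invariant orthogonal decompositions -/
theorem Syl.comp_mem [Finite V] [Fact p.Prime] (hpF : (p : F) ≠ 0) (h : SplF τ B G) (hP : Syl p G P)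
    {U W : Submodule F V} (hUW : IsCompl U W)
    (ho : ∀ u ∈ U, ∀ w ∈ W, B u w = 0) (hU : Inv P U) (hW : Inv P W) (hfix : ∀ u ∈ U, u ∈ fixP P → u = 0)
    {X : Submodule F V} (hX : Inv P X) {u w : V} (hu : u ∈ U) (hw : w ∈ W) (huw : u + w ∈ X) : u ∈ X ∧ w ∈ X := by
  classical
  have hfin : Finite (V ≃ₗ[F] V) := Finite.of_injective (fun g : V ≃ₗ[F] V => (g : V → V)) DFunLike.coe_injective
  set R := (cutH hUW hU).range with hR
  have hRP : R ≤ P := hP.range_le h hUW ho hU hW
  haveI : Fintype R := Fintype.ofFinite R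
  have hRX : Inv R X := fun g hg => hX g (hRP hg)
  have hRU : Inv R U := fun g hg => hU g (hRP hg)
  have hcard : (Fintype.card R : F) ≠ 0 := by
    have h2 : IsPGroup p R := hP.isP.to_le hRP
    obtain ⟨n, hn⟩ := IsPGroup.iff_card.1 h2
    rw [← Nat.card_eq_fintype_card, hn, Nat.cast_pow]
    exact pow_ne_zero _ hpF
  have h1 : avg R u = 0 := by
    apply hfix _ (avg_mem hRU hu)
    intro g hg
    have h2 := avg_fix (P := R) u (cutH hUW hU ⟨g, hg⟩) ⟨_, rfl⟩
    rwa [cutH_left hUW hU _ (avg_mem hRU hu)] at h2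
  have h2 : avg R w = (Fintype.card R : F) • w := by
    apply avg_of_fix
    rintro _ ⟨g, rfl⟩
    exact cutH_right hUW hU g hw
  have h3 := avg_mem hRX huw
  rw [avg_add, h1, zero_add, h2] at h3
  have h4 : w ∈ X := by
    have h5 := X.smul_mem (Fintype.card R : F)⁻¹ h3
    rwa [smul_smul, inv_mul_cancel₀ hcard, one_smul] at h5
  refine ⟨?_, h4⟩
  have h5 := X.sub_mem huw h4
  rwa [add_sub_cancel_right] at h5

/-- the fixed space of a `p`-group is nondegenerate -/
theorem nd_fix [Finite V] [Fact p.Prime] (hpF : (p : F) ≠ 0) (h : SplF τ B G) (hPG : P ≤ G) (hP : IsPGroup p P) :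
    ND B (fixP P) := by
  classical
  have hfin : Finite (V ≃ₗ[F] V) := Finite.of_injective (fun g : V ≃ₗ[F] V => (g : V → V)) DFunLike.coe_injective
  haveI : Fintype P := Fintype.ofFinite P
  have hcard : (Fintype.card P : F) ≠ 0 := by
    obtain ⟨n, hn⟩ := IsPGroup.iff_card.1 hP
    rw [← Nat.card_eq_fintype_card, hn, Nat.cast_pow]
    exact pow_ne_zero _ hpF
  intro v hv hv'
  refine h.nd v fun u => ?_
  have h1 : ∀ g : P, B v ((g : V ≃ₗ[F] V) u) = B v u := by
    intro g
    have h2 := h.pres g (hPG g.2) v u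
    rwa [hv g g.2] at h2
  have h2 : B v (avg P u) = (Fintype.card P : F) * B v u := by
    have h3 : ∀ s : Finset P, B v (∑ g ∈ s, (g : V ≃ₗ[F] V) u) = (s.card : F) * B v u := by
      intro s
      induction s using Finset.induction_on with
      | empty => simpa using h.zero_right v
      | insert a s ha ih =>
        rw [Finset.sum_insert ha, h.add_right, ih, h1, Finset.card_insert_of_notMem ha]
        push_cast
        ring
    exact h3 Finset.univ
  have h3 := hv' _ (avg_fix u)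
  rw [h2] at h3
  exact (mul_eq_zero.1 h3).resolve_left hcard

end syl

end Cfsg.Agent.H324.AP
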