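import Cfsg.Agent.H324.AP.Frame

/-!
# S4791, S4927, classical rows: the blocks of a Sylow `p`-subgroup (helper324)

`MinS B P D` : `D` is a minimal nondegenerate `P`-invariant subspace; `Irr P M` : `M` is an irreducible `P`-invariant
subspace.

* `exists_frame` : a nondegenerate `P`-invariant subspace is an orthogonal sum of minimal ones;
* `MinS.cases` : a minimal nondegenerate subspace `D` without fixed points is irreducible, or `D = M + N` with `M`, `N`
  irreducible, totally isotropic, and these are the only irreducible subspaces.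
-/

set_option autoImplicit false

namespace Cfsg.Agent.H324.AP

open Submodule Module

universe u v

variable {F : Type u} [Field F] {V : Type v} [AddCommGroup V] [Module F V]

/-- minimal nondegenerate invariant subspaces -/
structure MinS (B : V → V → F) (P : Subgroup (V ≃ₗ[F] V)) (D : Submodule F V) : Prop where
  inv : Inv P D
  nd : ND B D
  ne : D ≠ ⊥
  min : ∀ X : Submodule F V, X ≤ D → Inv P X → ND B X → X = ⊥ ∨ X = D

/-- irreducible invariant subspaces -/
structure Irr (P : Subgroup (V ≃ₗ[F] V)) (M : Submodule F V) : Prop where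
  inv : Inv P M
  ne : M ≠ ⊥
  min : ∀ X : Submodule F V, X ≤ M → Inv P X → X = ⊥ ∨ X = M

/-- totally isotropic subspaces -/
def TI (B : V → V → F) (M : Submodule F V) : Prop := ∀ u ∈ M, ∀ v ∈ M, B u v = 0

section irr

variable {P : Subgroup (V ≃ₗ[F] V)}

theorem exists_irr [FiniteDimensional F V] {W : Submodule F V} (hW : Inv P W) (h0 : W ≠ ⊥) : ∃ M ≤ W, Irr P M := by
  obtain ⟨M, ⟨h1, h2, h3⟩, h4⟩ := (wellFounded_lt (α := Submodule F V)).has_min
    {X | X ≤ W ∧ Inv P X ∧ X ≠ ⊥} ⟨W, le_rfl, hW, h0⟩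
  refine ⟨M, h1, h2, h3, fun X hX hXi => ?_⟩
  by_contra hcon
  push Not at hcon
  exact h4 X ⟨hX.trans h1, hXi, hcon.1⟩ (lt_of_le_of_ne hX hcon.2)

theorem exists_minS [FiniteDimensional F V] {B : V → V → F} {W : Submodule F V} (hW : Inv P W) (hn : ND B W)
    (h0 : W ≠ ⊥) : ∃ D ≤ W, MinS B P D := by
  obtain ⟨M, ⟨h1, h2, h5, h3⟩, h4⟩ := (wellFounded_lt (α := Submodule F V)).has_min
    {X | X ≤ W ∧ Inv P X ∧ ND B X ∧ X ≠ ⊥} ⟨W, le_rfl, hW, hn, h0⟩
  refine ⟨M, h1, h2, h5, h3, fun X hX hXi hXn => ?_⟩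
  by_contra hcon
  push Not at hcon
  exact h4 X ⟨hX.trans h1, hXi, hXn, hcon.1⟩ (lt_of_le_of_ne hX hcon.2)

theorem Irr.inf_eq {M N : Submodule F V} (hM : Irr P M) (hN : Irr P N) (h : M ≠ N) : M ⊓ N = ⊥ := by
  rcases hM.min _ inf_le_left (hM.inv.inf hN.inv) with h1 | h1
  · exact h1
  rcases hN.min _ inf_le_right (hM.inv.inf hN.inv) with h2 | h2
  · exact h2
  · exact absurd (h1.symm.trans h2) h

/-- Maschke -/
theorem exists_compl [Finite V] {p : ℕ} [Fact p.Prime] (hpF : (p : F) ≠ 0) (hP : IsPGroup p P) {X : Submodule F V}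
    (hX : Inv P X) : ∃ Y, Inv P Y ∧ IsCompl X Y := by
  classical
  have hfin : Finite (V ≃ₗ[F] V) := Finite.of_injective (fun g : V ≃ₗ[F] V => (g : V → V)) DFunLike.coe_injective
  haveI : Fintype P := Fintype.ofFinite P
  have hcard : (Fintype.card P : F) ≠ 0 := by
    obtain ⟨n, hn⟩ := IsPGroup.iff_card.1 hP
    rw [← Nat.card_eq_fintype_card, hn, Nat.cast_pow]
    exact pow_ne_zero _ hpF
  obtain ⟨Y₀, hY₀⟩ := Submodule.exists_isCompl X
  let π : Module.End F V := X.projection Y₀ hY₀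
  let π' : Module.End F V := (Fintype.card P : F)⁻¹ • ∑ g : P,
    ((g : V ≃ₗ[F] V) : V →ₗ[F] V) ∘ₗ π ∘ₗ (((g⁻¹ : P) : V ≃ₗ[F] V) : V →ₗ[F] V)
  have hπ' : ∀ v, π' v = (Fintype.card P : F)⁻¹ • ∑ g : P, (g : V ≃ₗ[F] V) (π (((g⁻¹ : P) : V ≃ₗ[F] V) v)) := by
    intro v
    simp only [π', LinearMap.smul_apply, LinearMap.sum_apply, LinearMap.comp_apply]
    rfl
  have hmem : ∀ v, π' v ∈ X := by
    intro v
    rw [hπ']
    refine X.smul_mem _ (X.sum_mem fun g _ => hX _ g.2 _ ?_)
    exact projection_apply_mem hY₀ _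
  have hid : ∀ x ∈ X, π' x = x := by
    intro x hx
    rw [hπ']
    have h1 : ∀ g : P, (g : V ≃ₗ[F] V) (π (((g⁻¹ : P) : V ≃ₗ[F] V) x)) = x := by
      intro g
      have h2 : π (((g⁻¹ : P) : V ≃ₗ[F] V) x) = ((g⁻¹ : P) : V ≃ₗ[F] V) x :=
        projection_apply_of_mem_left hY₀ (hX _ (g⁻¹ : P).2 x hx)
      rw [h2]
      exact LinearEquiv.apply_symm_apply (g : V ≃ₗ[F] V) x
    rw [Finset.sum_congr rfl fun g _ => h1 g, Finset.sum_const, Finset.card_univ, ← Nat.cast_smul_eq_nsmul F,
      smul_smul, inv_mul_cancel₀ hcard, one_smul]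
  have heq : ∀ x ∈ P, ∀ v, π' (x v) = x (π' v) := by
    intro x hx v
    rw [hπ', hπ', map_smul, map_sum]
    congr 1
    refine Fintype.sum_equiv (Equiv.mulLeft (⟨x, hx⟩ : P)⁻¹) _ _ fun g => ?_
    have h1 : (((Equiv.mulLeft (⟨x, hx⟩ : P)⁻¹) g : P) : V ≃ₗ[F] V) = x⁻¹ * (g : V ≃ₗ[F] V) := rfl
    have h2 : (((((Equiv.mulLeft (⟨x, hx⟩ : P)⁻¹) g)⁻¹ : P) : V ≃ₗ[F] V)) = (g : V ≃ₗ[F] V)⁻¹ * x := by
      change (x⁻¹ * (g : V ≃ₗ[F] V))⁻¹ = _
      group
    rw [h1, h2]
    exact (LinearEquiv.apply_symm_apply x _).symm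
  refine ⟨LinearMap.ker π', ?_, ?_, ?_⟩
  · intro g hg w hw
    rw [LinearMap.mem_ker] at hw ⊢
    rw [heq g hg, hw, map_zero]
  · rw [disjoint_iff, eq_bot_iff]
    rintro v ⟨hv, hv'⟩
    have h1 := hid v hv
    rw [LinearMap.mem_ker.1 hv'] at h1
    exact h1.symm
  · rw [codisjoint_iff, eq_top_iff]
    intro v _
    rw [← add_sub_cancel (π' v) v]
    refine Submodule.add_mem_sup (hmem v) ?_
    rw [LinearMap.mem_ker, map_sub, hid _ (hmem v), sub_self]

/-- Maschke, relative version -/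
theorem exists_compl_in [Finite V] {p : ℕ} [Fact p.Prime] (hpF : (p : F) ≠ 0) (hP : IsPGroup p P)
    {X D : Submodule F V} (hX : Inv P X) (hD : Inv P D) (hXD : X ≤ D) :
    ∃ Y ≤ D, Inv P Y ∧ X ⊓ Y = ⊥ ∧ X ⊔ Y = D := by
  obtain ⟨Y, hY, hc⟩ := exists_compl hpF hP hX
  refine ⟨Y ⊓ D, inf_le_right, hY.inf hD, ?_, ?_⟩
  · rw [← inf_assoc, hc.inf_eq_bot, bot_inf_eq]
  · rw [← sup_inf_assoc_of_le Y hXD, hc.sup_eq_top, top_inf_eq]

end irr

section form

variable {τ : F →+* F} {B : V → V → F} {G P : Subgroup (V ≃ₗ[F] V)}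

theorem SplF.sub_right (h : SplF τ B G) (u v w : V) : B u (v - w) = B u v - B u w := by
  have h1 := h.add_right u (v - w) w
  rw [sub_add_cancel] at h1
  rw [h1, add_sub_cancel_right]

theorem SplF.neg_right (h : SplF τ B G) (u v : V) : B u (-v) = -B u v := by
  rw [← zero_sub, h.sub_right, h.zero_right, zero_sub]

/-- the two parts of a block of linear type -/
structure Two (B : V → V → F) (P : Subgroup (V ≃ₗ[F] V)) (D M N : Submodule F V) : Prop where
  irrM : Irr P M
  irrN : Irr P N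
  tiM : TI B M
  tiN : TI B N
  sup : M ⊔ N = D
  inf : M ⊓ N = ⊥
  pM : ∀ m ∈ M, (∀ n ∈ N, B m n = 0) → m = 0
  pN : ∀ n ∈ N, (∀ m ∈ M, B n m = 0) → n = 0

theorem MinS.irr_or_two [Finite V] [FiniteDimensional F V] {p : ℕ} [Fact p.Prime] (hpF : (p : F) ≠ 0) (h : SplF τ B G)
    (hPG : P ≤ G) (hP : IsPGroup p P) {D : Submodule F V} (hD : MinS B P D) :
    Irr P D ∨ ∃ M N, Two B P D M N := by
  obtain ⟨M, hMD, hM⟩ := exists_irr hD.inv hD.ne
  by_cases hDM : M = D
  · left; rw [← hDM]; exact hM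
  right
  have key : ∀ X ≤ D, Irr P X → X ≠ D → TI B X := by
    intro X hXD hX hne
    rcases hX.min _ inf_le_left (hX.inv.inf (h.inv_perp hPG hX.inv)) with h1 | h1
    · exfalso
      have h2 : ND B X := by
        intro v hv hv'
        have h3 : v ∈ X ⊓ h.perp X := ⟨hv, hv'⟩
        rw [h1] at h3
        exact h3
      rcases hD.min X hXD hX.inv h2 with h3 | h3
      · exact hX.ne h3
      · exact hne h3
    · intro u hu v hv
      rw [← h1] at hu
      exact hu.2 v hv
  have hMti : TI B M := key M hMD hM hDM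
  -- the complement of `M^⊥ ∩ D`
  obtain ⟨N', hN'D, hN', hi, hs⟩ := exists_compl_in hpF hP ((h.inv_perp hPG hM.inv).inf hD.inv) hD.inv
    (inf_le_right : h.perp M ⊓ D ≤ D)
  have hN'0 : N' ≠ ⊥ := by
    rintro rfl
    rw [sup_bot_eq] at hs
    apply hM.ne
    rw [eq_bot_iff]
    intro m hm
    refine hD.nd m (hMD hm) fun w hw => ?_
    rw [← hs] at hw
    exact h.refl _ _ (hw.1 m hm)
  obtain ⟨N, hNN', hN⟩ := exists_irr hN' hN'0
  have hND : N ≤ D := hNN'.trans hN'D
  have pN : ∀ n ∈ N, (∀ m ∈ M, B n m = 0) → n = 0 := by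
    intro n hn hn'
    have h1 : n ∈ h.perp M ⊓ D ⊓ N' := ⟨⟨hn', hND hn⟩, hNN' hn⟩
    rw [hi] at h1
    exact h1
  have pM : ∀ m ∈ M, (∀ n ∈ N, B m n = 0) → m = 0 := by
    intro m hm hm'
    rcases hM.min _ inf_le_left (hM.inv.inf (h.inv_perp hPG hN.inv)) with h1 | h1
    · have h2 : m ∈ M ⊓ h.perp N := ⟨hm, hm'⟩
      rw [h1] at h2
      exact h2
    · exfalso
      apply hN.ne
      rw [eq_bot_iff]
      intro n hn
      refine pN n hn fun m' hm' => ?_
      rw [← h1] at hm'
      exact h.refl _ _ (hm'.2 n hn)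
  have hMN : M ≠ N := by
    rintro rfl
    apply hM.ne
    rw [eq_bot_iff]
    intro m hm
    exact pN m hm fun m' hm' => hMti m hm m' hm'
  have hnd : ND B (M ⊔ N) := by
    intro v hv hv'
    obtain ⟨m, hm, n, hn, rfl⟩ := Submodule.mem_sup.1 hv
    have hn0 : n = 0 := by
      refine pN n hn fun m' hm' => ?_
      have h2 := hv' m' (Submodule.mem_sup_left hm')
      rwa [h.add_left, hMti m hm m' hm', zero_add] at h2
    rw [hn0, add_zero] at hv' ⊢
    exact pM m hm fun n' hn' => hv' n' (Submodule.mem_sup_right hn')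
  have hsup : M ⊔ N = D := by
    rcases hD.min _ (sup_le hMD hND) (hM.inv.sup hN.inv) hnd with h1 | h1
    · exfalso
      apply hM.ne
      rw [eq_bot_iff, ← h1]
      exact le_sup_left
    · exact h1
  have hND' : N ≠ D := by
    intro h1
    have h2 : M ≤ N := by rw [h1]; exact hMD
    rcases hN.min M h2 hM.inv with h3 | h3
    · exact hM.ne h3
    · exact hMN h3
  exact ⟨M, N, hM, hN, hMti, key N hND hN hND', hsup, hM.inf_eq hN hMN, pM, pN⟩

/-- the two parts are the only irreducible subspaces -/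
theorem Two.unique [Finite V] [FiniteDimensional F V] {p : ℕ} [Fact p.Prime] (hp2 : p ≠ 2) (hpF : (p : F) ≠ 0)
    (h : SplF τ B G) (hPG : P ≤ G) (hP : IsPGroup p P) {D M N : Submodule F V} (hD : MinS B P D)
    (hfix : ∀ u ∈ D, u ∈ fixP P → u = 0) (h2 : Two B P D M N) {X : Submodule F V} (hXD : X ≤ D) (hX : Irr P X) :
    X = M ∨ X = N := by
  by_contra hcon
  push Not at hcon
  obtain ⟨hXM, hXN⟩ := hcon
  have hMD : M ≤ D := h2.sup ▸ le_sup_left
  have hND : N ≤ D := h2.sup ▸ le_sup_right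
  have iXM := hX.inf_eq h2.irrM hXM
  have iXN := hX.inf_eq h2.irrN hXN
  have hXneD : ∀ X, Irr P X → X ≠ D := by
    intro X hX h3
    rcases hX.min M (by rw [h3]; exact hMD) h2.irrM.inv with h4 | h4
    · exact h2.irrM.ne h4
    · have h5 : N ≤ M := by rw [h4, h3]; exact hND
      have h6 := h2.inf
      rw [inf_eq_right.2 h5] at h6
      exact h2.irrN.ne h6
  have hti : ∀ X ≤ D, Irr P X → TI B X := by
    intro X hXD hX
    rcases hX.min _ inf_le_left (hX.inv.inf (h.inv_perp hPG hX.inv)) with h1 | h1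
    · exfalso
      have h2 : ND B X := by
        intro v hv hv'
        have h3 : v ∈ X ⊓ h.perp X := ⟨hv, hv'⟩
        rw [h1] at h3
        exact h3
      rcases hD.min X hXD hX.inv h2 with h3 | h3
      · exact hX.ne h3
      · exact hXneD X hX h3
    · intro u hu v hv
      rw [← h1] at hu
      exact hu.2 v hv
  -- uniqueness of components
  have huni : ∀ m ∈ M, ∀ n ∈ N, ∀ m' ∈ M, ∀ n' ∈ N, m + n = m' + n' → m = m' ∧ n = n' := by
    intro m hm n hn m' hm' n' hn' h3
    have h4 : m - m' = n' - n := by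
      rw [sub_eq_iff_eq_add, sub_add_eq_add_sub, eq_sub_iff_add_eq, h3, add_comm]
    have h5 : m - m' ∈ M ⊓ N := ⟨M.sub_mem hm hm', by rw [h4]; exact N.sub_mem hn' hn⟩
    rw [h2.inf] at h5
    have h6 : m - m' = 0 := h5
    refine ⟨sub_eq_zero.1 h6, ?_⟩
    rw [h6] at h4
    exact (sub_eq_zero.1 h4.symm).symm
  -- every `m ∈ M` is the `M`-part of an element of `X`
  have hgr : ∀ m ∈ M, ∃ n ∈ N, m + n ∈ X := by
    intro m hm
    let Y : Submodule F V :=
      { carrier := {m | m ∈ M ∧ ∃ n ∈ N, m + n ∈ X}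
        add_mem' := by
          rintro a b ⟨ha, n, hn, h3⟩ ⟨hb, n', hn', h4⟩
          refine ⟨M.add_mem ha hb, n + n', N.add_mem hn hn', ?_⟩
          have : a + b + (n + n') = (a + n) + (b + n') := by abel
          rw [this]
          exact X.add_mem h3 h4
        zero_mem' := ⟨M.zero_mem, 0, N.zero_mem, by rw [add_zero]; exact X.zero_mem⟩
        smul_mem' := by
          rintro c a ⟨ha, n, hn, h3⟩
          refine ⟨M.smul_mem c ha, c • n, N.smul_mem c hn, ?_⟩
          rw [← smul_add]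
          exact X.smul_mem c h3 }
    have hYM : Y ≤ M := fun y hy => hy.1
    have hYi : Inv P Y := by
      rintro g hg y ⟨hy, n, hn, h3⟩
      refine ⟨h2.irrM.inv g hg y hy, g n, h2.irrN.inv g hg n hn, ?_⟩
      rw [← map_add]
      exact hX.inv g hg _ h3
    rcases h2.irrM.min Y hYM hYi with h3 | h3
    · exfalso
      apply hX.ne
      rw [eq_bot_iff]
      intro x hx
      have hx' := hXD hx
      rw [← h2.sup] at hx'
      obtain ⟨m', hm', n', hn', rfl⟩ := Submodule.mem_sup.1 hx'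
      have h4 : m' ∈ Y := ⟨hm', n', hn', hx⟩
      rw [h3] at h4
      have h5 : m' = 0 := h4
      have h6 : n' ∈ X ⊓ N := ⟨by rw [h5, zero_add] at hx; exact hx, hn'⟩
      rw [iXN] at h6
      have h7 : n' = 0 := h6
      rw [h5, h7, add_zero]
      exact Submodule.zero_mem _
    · have h4 : m ∈ Y := by rw [h3]; exact hm
      exact h4.2
  choose! φ hφN hφX using hgr
  have hφu : ∀ m ∈ M, ∀ n ∈ N, m + n ∈ X → n = φ m := by
    intro m hm n hn h3
    have h4 : n - φ m ∈ X ⊓ N := by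
      refine ⟨?_, N.sub_mem hn (hφN m hm)⟩
      have h5 := X.sub_mem h3 (hφX m hm)
      rwa [add_sub_add_left_eq_sub] at h5
    rw [iXN] at h4
    exact sub_eq_zero.1 h4
  have hφadd : ∀ a ∈ M, ∀ b ∈ M, φ (a + b) = φ a + φ b := fun a ha b hb => by
    refine (hφu (a + b) (M.add_mem ha hb) _ (N.add_mem (hφN a ha) (hφN b hb)) ?_).symm
    have : a + b + (φ a + φ b) = (a + φ a) + (b + φ b) := by abel
    rw [this]
    exact X.add_mem (hφX a ha) (hφX b hb)
  have hφsmul : ∀ (c : F), ∀ a ∈ M, φ (c • a) = c • φ a := fun c a ha => by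
    refine (hφu (c • a) (M.smul_mem c ha) _ (N.smul_mem c (hφN a ha)) ?_).symm
    rw [← smul_add]
    exact X.smul_mem c (hφX a ha)
  have hφg : ∀ g ∈ P, ∀ a ∈ M, φ (g a) = g (φ a) := fun g hg a ha => by
    refine (hφu (g a) (h2.irrM.inv g hg a ha) _ (h2.irrN.inv g hg _ (hφN a ha)) ?_).symm
    rw [← map_add]
    exact hX.inv g hg _ (hφX a ha)
  -- a central element modulo the kernel on `D`
  obtain ⟨z, hz, hzc, hz1⟩ : ∃ z ∈ P, (∀ g ∈ P, ∀ d ∈ D, g (z d) = z (g d)) ∧ ∃ d ∈ D, z d ≠ d := by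
    have hfin : Finite (V ≃ₗ[F] V) := Finite.of_injective (fun g : V ≃ₗ[F] V => (g : V → V)) DFunLike.coe_injective
    let ρ : P →* Equiv.Perm D :=
      { toFun := fun g =>
          { toFun := fun d => ⟨(g : V ≃ₗ[F] V) d, hD.inv _ g.2 _ d.2⟩
            invFun := fun d => ⟨((g⁻¹ : P) : V ≃ₗ[F] V) d, hD.inv _ (g⁻¹ : P).2 _ d.2⟩
            left_inv := fun d => Subtype.ext (LinearEquiv.symm_apply_apply (g : V ≃ₗ[F] V) d)
            right_inv := fun d => Subtype.ext (LinearEquiv.apply_symm_apply (g : V ≃ₗ[F] V) d) }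
        map_one' := rfl
        map_mul' := fun _ _ => rfl }
    have hρ : ∀ (g : P) (d : D), ((ρ g d : D) : V) = (g : V ≃ₗ[F] V) d := fun _ _ => rfl
    have hRp : IsPGroup p ρ.range := by
      rw [MonoidHom.range_eq_map]
      exact (hP.to_subgroup ⊤).map ρ
    have hRn : Nontrivial ρ.range := by
      by_contra hne
      rw [not_nontrivial_iff_subsingleton] at hne
      apply hD.ne
      rw [eq_bot_iff]
      intro d hd
      apply hfix d hd
      intro g hg
      have h3 : (⟨ρ ⟨g, hg⟩, ⟨_, rfl⟩⟩ : ρ.range) = 1 := Subsingleton.elim _ _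
      have h4 := congrArg (fun f : ρ.range => ((f : Equiv.Perm D) ⟨d, hd⟩ : V)) h3
      exact h4
    have hfr : Finite ρ.range := inferInstance
    have hc := hRp.center_nontrivial
    obtain ⟨⟨⟨zz, ⟨z, rfl⟩⟩, hzc⟩, hz1⟩ := exists_ne (1 : Subgroup.center ρ.range)
    refine ⟨z, z.2, fun g hg d hd => ?_, ?_⟩
    · have h3 := Subgroup.mem_center_iff.1 hzc ⟨ρ ⟨g, hg⟩, ⟨_, rfl⟩⟩
      have h4 := congrArg (fun f : ρ.range => ((f : Equiv.Perm D) ⟨d, hd⟩ : V)) h3
      exact h4
    · by_contra hcon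
      push Not at hcon
      apply hz1
      apply Subtype.ext
      apply Subtype.ext
      apply Equiv.ext
      intro d
      exact Subtype.ext (hcon d d.2)
  -- `z` has no fixed points on `D`
  have hzf : ∀ d ∈ D, z d = d → d = 0 := by
    let Z : Subgroup (V ≃ₗ[F] V) := Subgroup.zpowers z
    have hZP : Z ≤ P := (Subgroup.zpowers_le).2 hz
    have hcZ : ∀ g ∈ P, ∀ y ∈ Z, ∀ d ∈ D, g (y d) = y (g d) := by
      rintro g hg y ⟨k, rfl⟩ d hd
      -- the elements commuting with `g` on `D`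
      let C : Subgroup (V ≃ₗ[F] V) :=
        { carrier := {y | y ∈ P ∧ ∀ d ∈ D, g (y d) = y (g d)}
          one_mem' := ⟨P.one_mem, fun d _ => rfl⟩
          mul_mem' := by
            rintro a b ⟨ha, ha'⟩ ⟨hb, hb'⟩
            refine ⟨P.mul_mem ha hb, fun d hd => ?_⟩
            rw [LinearEquiv.mul_apply, ha' _ (hD.inv b hb d hd), hb' d hd]
            rfl
          inv_mem' := by
            rintro a ⟨ha, ha'⟩
            refine ⟨P.inv_mem ha, fun d hd => ?_⟩
            have h3 := ha' (a⁻¹ d) (hD.inv _ (P.inv_mem ha) d hd)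
            have h4 : a (a⁻¹ d) = d := LinearEquiv.apply_symm_apply a d
            rw [h4] at h3
            have h5 : a⁻¹ (g d) = a⁻¹ (a (g (a⁻¹ d))) := by rw [h3]
            rw [h5]
            exact (LinearEquiv.symm_apply_apply a _).symm }
      have h3 : z ∈ C := ⟨hz, fun d hd => hzc g hg d hd⟩
      have h4 : z ^ k ∈ C := C.zpow_mem h3 k
      exact h4.2 d hd
    have hinv : Inv P (fixP Z ⊓ D) := by
      rintro g hg d ⟨hd, hdD⟩
      refine ⟨fun y hy => ?_, hD.inv g hg d hdD⟩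
      rw [← hcZ g hg y hy d hdD, hd y hy]
    have hnd : ND B (fixP Z ⊓ D) := by
      have hDZ : Inv Z D := fun g hg => hD.inv g (hZP hg)
      intro v hv hv'
      refine hD.nd v hv.2 fun w hw => ?_
      -- average of `w`
      classical
      have hfin : Finite (V ≃ₗ[F] V) := Finite.of_injective (fun g : V ≃ₗ[F] V => (g : V → V)) DFunLike.coe_injective
      have : Fintype Z := Fintype.ofFinite Z
      have hcard : (Fintype.card Z : F) ≠ 0 := by
        obtain ⟨n, hn⟩ := IsPGroup.iff_card.1 (hP.to_le hZP)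
        rw [← Nat.card_eq_fintype_card, hn, Nat.cast_pow]
        exact pow_ne_zero _ hpF
      have h1 : ∀ g : Z, B v ((g : V ≃ₗ[F] V) w) = B v w := by
        intro g
        have h2 := h.pres g (hPG (hZP g.2)) v w
        rwa [hv.1 g g.2] at h2
      have h3 : ∀ s : Finset Z, B v (∑ g ∈ s, (g : V ≃ₗ[F] V) w) = (s.card : F) * B v w := by
        intro s
        induction s using Finset.induction_on with
        | empty => simpa using h.zero_right v
        | insert a s ha ih =>
          rw [Finset.sum_insert ha, h.add_right, ih, h1, Finset.card_insert_of_notMem ha]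
          push_cast
          ring
      have h4 := hv' _ (⟨avg_fix (P := Z) w, avg_mem hDZ hw⟩ : avg Z w ∈ fixP Z ⊓ D)
      have h5 := h3 Finset.univ
      change B v (avg Z w) = _ at h5
      rw [h4] at h5
      exact (mul_eq_zero.1 h5.symm).resolve_left hcard
    intro d hd hzd
    have hdf : d ∈ fixP Z := by
      intro y hy
      have h3 : Z ≤ MulAction.stabilizer (V ≃ₗ[F] V) d := (Subgroup.zpowers_le).2 hzd
      exact h3 hy
    rcases hD.min _ inf_le_right hinv hnd with h3 | h3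
    · have h4 : d ∈ fixP Z ⊓ D := ⟨hdf, hd⟩
      rw [h3] at h4
      exact h4
    · exfalso
      obtain ⟨d', hd', hne⟩ := hz1
      rw [← h3] at hd'
      exact hne (hd'.1 z (Subgroup.mem_zpowers z))
  -- the subspace `{m + z φ(m)}`
  let X' : Submodule F V :=
    { carrier := {x | ∃ m ∈ M, x = m + z (φ m)}
      add_mem' := by
        rintro _ _ ⟨a, ha, rfl⟩ ⟨b, hb, rfl⟩
        refine ⟨a + b, M.add_mem ha hb, ?_⟩
        rw [hφadd a ha b hb, map_add]
        abel
      zero_mem' := ⟨0, M.zero_mem, by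
        have h3 := hφsmul 0 0 M.zero_mem
        rw [zero_smul, zero_smul] at h3
        rw [h3, map_zero, add_zero]⟩
      smul_mem' := by
        rintro c _ ⟨a, ha, rfl⟩
        refine ⟨c • a, M.smul_mem c ha, ?_⟩
        rw [hφsmul c a ha, map_smul, smul_add] }
  have hX'D : X' ≤ D := by
    rintro _ ⟨m, hm, rfl⟩
    exact D.add_mem (hMD hm) (hD.inv z hz _ (hND (hφN m hm)))
  have hX'i : Inv P X' := by
    rintro g hg _ ⟨m, hm, rfl⟩
    refine ⟨g m, h2.irrM.inv g hg m hm, ?_⟩
    rw [map_add, hzc g hg _ (hND (hφN m hm)), hφg g hg m hm]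
  have hX'irr : Irr P X' := by
    refine ⟨hX'i, ?_, fun Y hY hYi => ?_⟩
    · intro h3
      apply h2.irrM.ne
      rw [eq_bot_iff]
      intro m hm
      have h4 : m + z (φ m) ∈ X' := ⟨m, hm, rfl⟩
      rw [h3] at h4
      have h5 : m + z (φ m) = 0 + 0 := by rw [add_zero]; exact h4
      exact (huni m hm _ (h2.irrN.inv z hz _ (hφN m hm)) 0 M.zero_mem 0 N.zero_mem h5).1
    · let M' : Submodule F V :=
        { carrier := {m | m ∈ M ∧ m + z (φ m) ∈ Y}
          add_mem' := by
            rintro a b ⟨ha, ha'⟩ ⟨hb, hb'⟩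
            refine ⟨M.add_mem ha hb, ?_⟩
            have : a + b + z (φ (a + b)) = (a + z (φ a)) + (b + z (φ b)) := by
              rw [hφadd a ha b hb, map_add]; abel
            rw [this]
            exact Y.add_mem ha' hb'
          zero_mem' := ⟨M.zero_mem, by
            have h3 := hφsmul 0 0 M.zero_mem
            rw [zero_smul, zero_smul] at h3
            rw [h3, map_zero, add_zero]
            exact Y.zero_mem⟩
          smul_mem' := by
            rintro c a ⟨ha, ha'⟩
            refine ⟨M.smul_mem c ha, ?_⟩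
            have : c • a + z (φ (c • a)) = c • (a + z (φ a)) := by rw [hφsmul c a ha, map_smul, smul_add]
            rw [this]
            exact Y.smul_mem c ha' }
      have hM'i : Inv P M' := by
        rintro g hg m ⟨hm, hm'⟩
        refine ⟨h2.irrM.inv g hg m hm, ?_⟩
        have : g m + z (φ (g m)) = g (m + z (φ m)) := by
          rw [map_add, hzc g hg _ (hND (hφN m hm)), hφg g hg m hm]
        rw [this]
        exact hYi g hg _ hm'
      rcases h2.irrM.min M' (fun m hm => hm.1) hM'i with h3 | h3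
      · left
        rw [eq_bot_iff]
        intro y hy
        obtain ⟨m, hm, rfl⟩ := hY hy
        have h4 : m ∈ M' := ⟨hm, hy⟩
        rw [h3] at h4
        have h5 : m = 0 := h4
        have h6 := hφsmul 0 0 M.zero_mem
        rw [zero_smul, zero_smul] at h6
        rw [h5, h6, map_zero, add_zero]
        exact Submodule.zero_mem _
      · right
        refine le_antisymm hY ?_
        rintro _ ⟨m, hm, rfl⟩
        rw [← h3] at hm
        exact hm.2
  have e1 := hti X hXD hX
  have e2 := hti X' hX'D hX'irr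
  have f1 : ∀ m ∈ M, ∀ m' ∈ M, B m (φ m') = - B (φ m) m' := by
    intro m hm m' hm'
    have h3 := e1 _ (hφX m hm) _ (hφX m' hm')
    rw [h.add_left, h.add_right, h.add_right, h2.tiM m hm m' hm', h2.tiN _ (hφN m hm) _ (hφN m' hm'), zero_add,
      add_zero] at h3
    exact eq_neg_of_add_eq_zero_left h3
  have f2 : ∀ m ∈ M, ∀ m' ∈ M, B m (z (φ m')) = - B (z (φ m)) m' := by
    intro m hm m' hm'
    have h3 := e2 _ ⟨m, hm, rfl⟩ _ ⟨m', hm', rfl⟩
    rw [h.add_left, h.add_right, h.add_right, h2.tiM m hm m' hm',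
      h2.tiN _ (h2.irrN.inv z hz _ (hφN m hm)) _ (h2.irrN.inv z hz _ (hφN m' hm')), zero_add, add_zero] at h3
    exact eq_neg_of_add_eq_zero_left h3
  have f3 : ∀ m ∈ M, z (z (φ m)) = φ m := by
    intro m' hm'
    have hzi : z⁻¹ ∈ P := P.inv_mem hz
    have hm'' : z⁻¹ m' ∈ M := h2.irrM.inv _ hzi m' hm'
    have h3 : z (φ m') - φ (z⁻¹ m') = 0 := by
      refine h2.pN _ (N.sub_mem (h2.irrN.inv z hz _ (hφN m' hm')) (hφN _ hm'')) fun m hm => ?_
      apply h.refl
      rw [h.sub_right, f2 m hm m' hm', f1 m hm _ hm'']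
      have h4 := h.pres z (hPG hz) (φ m) (z⁻¹ m')
      have h5 : z (z⁻¹ m') = m' := LinearEquiv.apply_symm_apply z m'
      rw [h5] at h4
      rw [h4, sub_self]
    have h4 : z (φ m') = φ (z⁻¹ m') := sub_eq_zero.1 h3
    have h5 : z (z⁻¹ m') = m' := LinearEquiv.apply_symm_apply z m'
    rw [h4, ← hφg z hz _ hm'', h5]
  -- `z ^ 2 = 1` on the image of `φ`, hence `z = 1` there
  obtain ⟨m, hm, hm0⟩ := Submodule.exists_mem_ne_zero_of_ne_bot h2.irrM.ne
  have h3 : φ m = 0 := by
    apply hzf _ (hND (hφN m hm))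
    obtain ⟨k, hk⟩ := hP ⟨z, hz⟩
    have hk' : z ^ p ^ k = 1 := congrArg Subtype.val hk
    have hodd : Odd (p ^ k) := ((Fact.out : p.Prime).odd_of_ne_two hp2).pow
    obtain ⟨j, hj⟩ := hodd
    have h4 : ∀ j : ℕ, (z ^ (2 * j)) (φ m) = φ m := by
      intro j
      induction j with
      | zero => rfl
      | succ j ih =>
        have : z ^ (2 * (j + 1)) = z ^ (2 * j) * (z * z) := by rw [mul_add, pow_add]; rfl
        rw [this, LinearEquiv.mul_apply, LinearEquiv.mul_apply, f3 m hm, ih]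
    have h5 : (z ^ p ^ k) (φ m) = z (φ m) := by
      rw [hj, pow_succ', LinearEquiv.mul_apply, h4]
    rw [hk'] at h5
    exact h5.symm
  have h4 := hφX m hm
  rw [h3, add_zero] at h4
  have h5 : m ∈ X ⊓ M := ⟨h4, hm⟩
  rw [iXM] at h5
  exact hm0 h5

/-- **decomposition into blocks** -/
theorem exists_frame [FiniteDimensional F V] (h : SplF τ B G) (hPG : P ≤ G) {W : Submodule F V} (hW : Inv P W)
    (hn : ND B W) : ∃ (n : ℕ) (D : Fin n → Submodule F V), (∀ i, MinS B P (D i)) ∧
      (∀ i j, i ≠ j → ∀ u ∈ D i, ∀ w ∈ D j, B u w = 0) ∧ (⨆ i, D i) = W := by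
  induction hd : finrank F W using Nat.strong_induction_on generalizing W with
  | _ d ih =>
    by_cases h0 : W = ⊥
    · refine ⟨0, fun i => i.elim0, fun i => i.elim0, fun i => i.elim0, ?_⟩
      rw [iSup_of_empty, h0]
    obtain ⟨D, hDW, hD⟩ := exists_minS hW hn h0
    have hc := h.isCompl_perp hD.nd
    have hmod : D ⊔ (h.perp D ⊓ W) = W := by
      rw [← sup_inf_assoc_of_le _ hDW, hc.sup_eq_top, top_inf_eq]
    have hlt : h.perp D ⊓ W < W := by
      refine lt_of_le_of_ne inf_le_right fun h1 => hD.ne ?_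
      have h2 : D ≤ h.perp D := hDW.trans (h1.ge.trans inf_le_left)
      rw [eq_bot_iff, ← hc.inf_eq_bot]
      exact le_inf le_rfl h2
    obtain ⟨n, E, hE, ho, hs⟩ := ih (finrank F (h.perp D ⊓ W : Submodule F V))
      (by rw [← hd]; exact Submodule.finrank_lt_finrank_of_lt hlt) ((h.inv_perp hPG hD.inv).inf hW)
      (by
        intro v hv hv'
        refine hn v hv.2 fun w hw => ?_
        rw [← hmod] at hw
        obtain ⟨a, ha, b, hb, rfl⟩ := Submodule.mem_sup.1 hw
        rw [h.add_right, hv.1 a ha, hv' b hb, add_zero]) rfl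
    have hEle : ∀ i, E i ≤ h.perp D := fun i => (le_iSup E i).trans (hs.le.trans inf_le_left)
    refine ⟨n + 1, Fin.cons D E, fun i => ?_, fun i j => ?_, ?_⟩
    · refine Fin.cases ?_ (fun i => ?_) i
      · exact hD
      · rw [Fin.cons_succ]; exact hE i
    · refine Fin.cases ?_ (fun i => ?_) i
      · refine Fin.cases ?_ (fun j => ?_) j
        · intro h1; exact absurd rfl h1
        · intro _ u hu w hw
          rw [Fin.cons_zero] at hu
          rw [Fin.cons_succ] at hw
          exact h.refl _ _ (hEle j hw u hu)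
      · refine Fin.cases ?_ (fun j => ?_) j
        · intro _ u hu w hw
          rw [Fin.cons_succ] at hu
          rw [Fin.cons_zero] at hw
          exact hEle i hu w hw
        · intro h1 u hu w hw
          rw [Fin.cons_succ] at hu hw
          exact ho i j (fun h2 => h1 (by rw [h2])) u hu w hw
    · refine le_antisymm (iSup_le fun i => ?_) ?_
      · refine Fin.cases ?_ (fun i => ?_) i
        · exact hDW
        · rw [Fin.cons_succ]
          exact (le_iSup E i).trans (hs.le.trans inf_le_right)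
      · rw [← hmod]
        refine sup_le ?_ ?_
        · exact le_iSup (Fin.cons D E : Fin (n + 1) → Submodule F V) 0
        · rw [← hs]
          exact iSup_le fun i => le_iSup (Fin.cons D E : Fin (n + 1) → Submodule F V) i.succ

end form

end Cfsg.Agent.H324.AP
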