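import Cfsg.Agent.H324.AP.PSp
import Cfsg.Agent.H875.KB.Gen
import Cfsg.Agent.H418.KB.Orth

/-!
# S4791, S4927: the forms for the orthogonal groups (helper324)
-/

set_option autoImplicit false

open Cfsg Subgroup Module

namespace Cfsg.Agent.H324.AP

open Cfsg.Agent.H443.XC
open Cfsg.Agent.LieClassical.OrthCore Cfsg.Agent.LieClassical.OrthTrans Cfsg.Agent.LieClassical.OrthForms
open Cfsg.Agent.LieClassical.OrthFinite

universe u

theorem sq_of_center {F V : Type*} [Field F] [AddCommGroup V] [Module F V] {Q : QuadraticForm F V} (hG : Good Q)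
    {g : ↥(E Q)} (hg : g ∈ center ↥(E Q)) : g ^ 2 = 1 := by
  obtain ⟨c, hc⟩ := Cfsg.Agent.AutOrth.Gen.scalar_of_center hG hg
  obtain ⟨x, y, hxy⟩ := hG.exists_hyp
  have hQ : ∃ v, Q v ≠ 0 := by
    by_contra hcon
    push Not at hcon
    obtain ⟨x, hx0, -⟩ := hG.sing
    apply hx0
    refine hG.nondeg x fun v => ?_
    rw [QuadraticMap.polar, hcon, hcon, hcon]
    ring
  obtain ⟨v, hv⟩ := hQ
  have h1 : Q ((g : V ≃ₗ[F] V) v) = Q v := mem_O.1 (E_le_O g.2) v
  rw [hc, QuadraticMap.map_smul, smul_eq_mul] at h1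
  have h2 : c * c = 1 := mul_right_cancel₀ hv (h1.trans (one_mul _).symm)
  apply Subtype.ext
  apply LinearEquiv.ext
  intro w
  have h3 : ((g ^ 2 : ↥(E Q)) : V ≃ₗ[F] V) w = (g : V ≃ₗ[F] V) ((g : V ≃ₗ[F] V) w) := by
    rw [pow_two]; rfl
  rw [h3, hc, hc, smul_smul, h2, one_smul]
  rfl

/-- **the group `E Q / Z(E Q)`** -/
theorem frmB_EQ {p r : ℕ} [hp : Fact p.Prime] [Fact r.Prime] (hrp : r ≠ p) (hp2 : p ≠ 2) {F V : Type*} [Field F] [Fintype F]
    [CharP F r] [AddCommGroup V] [Module F V] [Finite V] {Q : QuadraticForm F V} (hG : Good Q) {S : Type u} [Group S]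
    [Finite S] (e : S ≃* (↥(E Q) ⧸ center ↥(E Q))) (hA : AbSyl p S)
    (hP : ∀ P : Sylow p S, ¬ IsCyclic (P : Subgroup S)) : FrmB p S (dSp p (Fintype.card F)) := by
  have hfd : FiniteDimensional F V := Module.finite_of_finrank_pos (by have := hG.dim; omega)
  have hpodd : Odd p := hp.out.odd_of_ne_two hp2
  let π : ↥(E Q) →* S := (e.symm.toMonoidHom).comp (QuotientGroup.mk' (center ↥(E Q)))
  have hπ : Function.Surjective π := e.symm.surjective.comp (QuotientGroup.mk'_surjective _)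
  have hker : ∀ z, π z = 1 → z ∈ center ↥(E Q) := by
    intro z hz
    have h1 : QuotientGroup.mk' (center ↥(E Q)) z = 1 := (map_eq_one_iff _ e.symm.injective).1 hz
    exact (QuotientGroup.eq_one_iff z).1 h1
  refine frmB_of_model (r := r) (s := 0) hp2 hrp (splF_of_spl (Cfsg.Agent.H418.KB.spl_O hG.nondeg))
    (fun a => by rw [pow_zero, pow_one]; rfl)
    (E Q).subtype (E Q).subtype_injective (fun x => E_le_O x.2)
    (fun g hg k hk => ⟨⟨g, Cfsg.Agent.H875.KB.mem_E_of_pow hG hg hpodd.pow hk⟩, rfl⟩) π hπ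
    (fun z hz x => (mem_center_iff.1 (hker z hz) x).symm) (fun z hz k hk => ?_) ?_ (neg_one_pow_dSp _ _ _) hA hP
  · have h1 := sq_of_center hG (hker z hz)
    have h2 : orderOf z ∣ p ^ k := orderOf_dvd_of_pow_eq_one hk
    have h3 : orderOf z ∣ 2 := orderOf_dvd_of_pow_eq_one h1
    have h4 : Nat.Coprime (p ^ k) 2 := Nat.Coprime.pow_left k ((Nat.coprime_primes hp.out Nat.prime_two).2 hp2)
    exact orderOf_eq_one_iff.1 (Nat.eq_one_of_dvd_coprimes h4 h2 h3)
  · rw [Nat.card_eq_fintype_card]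
    exact pow_dSp p _

section forms

variable {p r : ℕ} [hp : Fact p.Prime] [Fact r.Prime] (hrp : r ≠ p) (hp2 : p ≠ 2) {F : Type} [Field F] [Fintype F]
  [CharP F r] {S : Type u} [Group S] [Finite S] (hA : AbSyl p S) (hP : ∀ P : Sylow p S, ¬ IsCyclic (P : Subgroup S))

include hrp hp2 hA hP

/-- `PΩ_{2m+1}(q)` -/
theorem frmB_omegaOdd {m : ℕ} (hm : 3 ≤ m) (hq : Odd (Fintype.card F)) (e : S ≃* POmega F (quadFormOdd m F)) :
    FrmB p S (dSp p (Fintype.card F)) := by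
  have h2 : (2 : F) ≠ 0 := by
    intro h0
    obtain ⟨n, hr1, hn⟩ := FiniteField.card F r
    have h1 : r ∣ 2 := (CharP.cast_eq_zero_iff F r 2).1 (by exact_mod_cast h0)
    have h3 : r = 2 := (Nat.prime_dvd_prime_iff_eq Fact.out Nat.prime_two).1 h1
    rw [hn, h3] at hq
    exact (Nat.not_odd_iff_even.2 ((even_two).pow_of_ne_zero n.ne_zero)) hq
  have hG : Good (oddForm m F) := good_of_finite (nondeg_oddForm m F h2) (by
    rw [finrank_fintype_fun_eq_card]
    simp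
    omega)
  have e0 : POmega F ⇑(oddForm m F) ≃* (↥(E (oddForm m F)) ⧸ center ↥(E (oddForm m F))) := Cfsg.Agent.AutOrth.Main.pe hG
  rw [coe_oddForm] at e0
  exact frmB_EQ hrp hp2 hG (e.trans e0) hA hP

/-- `PΩ⁺_{2m}(q)` -/
theorem frmB_omegaPlus {m : ℕ} (hm : 3 ≤ m) (e : S ≃* POmega F (quadFormPlus m F)) :
    FrmB p S (dSp p (Fintype.card F)) := by
  have hG : Good (plusForm m F) := good_of_finite (nondeg_plusForm m F) (by
    rw [finrank_fintype_fun_eq_card]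
    simp
    omega)
  have e0 : POmega F ⇑(plusForm m F) ≃* (↥(E (plusForm m F)) ⧸ center ↥(E (plusForm m F))) :=
    Cfsg.Agent.AutOrth.Main.pe hG
  rw [coe_plusForm] at e0
  exact frmB_EQ hrp hp2 hG (e.trans e0) hA hP

/-- `PΩ⁻_{2m+2}(q)` -/
theorem frmB_omegaMinus {m : ℕ} (hm : 2 ≤ m) {a b : F}
    (hn : ∀ z₁ z₂ : F, z₁ ^ 2 + a * z₁ * z₂ + b * z₂ ^ 2 = 0 → z₁ = 0 ∧ z₂ = 0)
    (e : S ≃* POmega F (quadFormMinus m F a b)) : FrmB p S (dSp p (Fintype.card F)) := by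
  have hG : Good (minusForm m F a b) := good_of_finite (nondeg_minusForm m F a b hn) (by
    rw [finrank_fintype_fun_eq_card]
    simp
    omega)
  have e0 : POmega F ⇑(minusForm m F a b) ≃* (↥(E (minusForm m F a b)) ⧸ center ↥(E (minusForm m F a b))) :=
    Cfsg.Agent.AutOrth.Main.pe hG
  rw [coe_minusForm] at e0
  exact frmB_EQ hrp hp2 hG (e.trans e0) hA hP

end forms

end Cfsg.Agent.H324.AP
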