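import Cfsg.Agent.H324.AP.PSp
import Cfsg.Agent.H724.KB.RowPSU

/-!
# S4791, S4927: the forms for `PSU_n(q)`, `p ∤ q + 1` (helper324)
-/

set_option autoImplicit false

open Cfsg Subgroup Module
open scoped Matrix

namespace Cfsg.Agent.H324.AP

open Cfsg.Agent.H443.XC
open Cfsg.Agent.BpCl (Iso mem_Iso)

universe u

variable {F : Type} [Field F] [Fintype F] {n q : ℕ}

theorem exists_q (r : ℕ) [hr : Fact r.Prime] [CharP F r] (hF : Fintype.card F = q ^ 2) : ∃ s : ℕ, q = r ^ s := by
  obtain ⟨k, hr1, hn⟩ := FiniteField.card F r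
  have h1 : q ∣ r ^ (k : ℕ) := by
    rw [← hn, hF]
    exact dvd_pow_self q two_ne_zero
  obtain ⟨s, -, hs⟩ := (Nat.dvd_prime_pow hr.out).1 h1
  exact ⟨s, hs⟩

/-- the hermitian form -/
theorem splF_herm {r s : ℕ} [hr : Fact r.Prime] [CharP F r] (hF : Fintype.card F = (r ^ s) ^ 2) :
    SplF (iterateFrobenius F r s) (hermForm n F (r ^ s)) (Iso (hermForm n F (r ^ s))) := by
  have hexp : ExpChar F r := ExpChar.prime hr.out
  have hadd : ∀ a b : F, (a + b) ^ r ^ s = a ^ r ^ s + b ^ r ^ s := fun a b => add_pow_expChar_pow ..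
  have e1 : ∀ u v w : Fin n → F, hermForm n F (r ^ s) (u + v) w = hermForm n F (r ^ s) u w + hermForm n F (r ^ s) v w := by
    intro u v w
    unfold hermForm
    rw [← Finset.sum_add_distrib]
    exact Finset.sum_congr rfl fun i _ => by rw [Pi.add_apply, add_mul]
  have e2 : ∀ u v w : Fin n → F, hermForm n F (r ^ s) u (v + w) = hermForm n F (r ^ s) u v + hermForm n F (r ^ s) u w := by
    intro u v w
    unfold hermForm
    rw [← Finset.sum_add_distrib]
    exact Finset.sum_congr rfl fun i _ => by rw [Pi.add_apply, hadd, mul_add]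
  have e3 : ∀ u v : Fin n → F, hermForm n F (r ^ s) v u = (hermForm n F (r ^ s) u v) ^ r ^ s := by
    intro u v
    unfold hermForm
    rw [← iterateFrobenius_def, map_sum]
    refine Finset.sum_congr rfl fun i _ => ?_
    rw [iterateFrobenius_def, mul_pow, ← pow_mul, ← pow_two (r ^ s), ← hF, FiniteField.pow_card, mul_comm]
  refine ⟨e1, e2, fun a u v => ?_, fun a u v => ?_, fun u v h => ?_, fun u h => ?_, fun g hg => hg, ?_⟩
  · unfold hermForm
    rw [Finset.mul_sum]
    exact Finset.sum_congr rfl fun i _ => by rw [Pi.smul_apply, smul_eq_mul, mul_assoc]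
  · unfold hermForm
    rw [Finset.mul_sum]
    refine Finset.sum_congr rfl fun i _ => ?_
    rw [Pi.smul_apply, smul_eq_mul, mul_pow, iterateFrobenius_def]
    ring
  · rw [e3, h, zero_pow]
    exact pow_ne_zero _ hr.out.ne_zero
  · funext i
    have h1 := h (Pi.single i 1)
    unfold hermForm at h1
    rw [Finset.sum_eq_single i] at h1
    · rwa [Pi.single_eq_same, one_pow, mul_one] at h1
    · intro j _ hj
      rw [Pi.single_eq_of_ne hj, zero_pow (pow_ne_zero _ hr.out.ne_zero), mul_zero]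
    · intro h2; exact absurd (Finset.mem_univ _) h2
  · intro g hg g' U W hUW hB hgU hU hW a b
    obtain ⟨u1, hu1, w1, hw1, rfl⟩ := Submodule.mem_sup.1 (show a ∈ U ⊔ W by rw [hUW]; trivial)
    obtain ⟨u2, hu2, w2, hw2, rfl⟩ := Submodule.mem_sup.1 (show b ∈ U ⊔ W by rw [hUW]; trivial)
    have hz : (0 : F) ^ r ^ s = 0 := zero_pow (pow_ne_zero _ hr.out.ne_zero)
    rw [map_add g', map_add g', hU u1 hu1, hU u2 hu2, hW w1 hw1, hW w2 hw2]
    simp only [e1, e2]
    rw [hB u1 hu1 w2 hw2, hB (g u1) (hgU u1 hu1) w2 hw2, e3 u2 w1, hB u2 hu2 w1 hw1, e3 (g u2) w1,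
      hB (g u2) (hgU u2 hu2) w1 hw1, hg u1 u2]

/-- the determinant of an isometry -/
theorem det_pow {r s : ℕ} [hr : Fact r.Prime] [CharP F r] {A : Matrix (Fin n) (Fin n) F}
    (hA : ∀ u v, hermForm n F (r ^ s) (A *ᵥ u) (A *ᵥ v) = hermForm n F (r ^ s) u v) : A.det ^ (r ^ s + 1) = 1 := by
  classical
  have hexp : ExpChar F r := ExpChar.prime hr.out
  have h1 : Aᵀ * A.map (iterateFrobenius F r s) = 1 := by
    ext i j
    have h2 := hA (Pi.single i 1) (Pi.single j 1)
    rw [Matrix.mulVec_single_one, Matrix.mulVec_single_one] at h2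
    rw [Matrix.mul_apply]
    have h3 : hermForm n F (r ^ s) (A.col i) (A.col j) = ∑ k, Aᵀ i k * A.map (iterateFrobenius F r s) k j := by
      unfold hermForm
      refine Finset.sum_congr rfl fun k _ => ?_
      rw [Matrix.transpose_apply, Matrix.map_apply, iterateFrobenius_def]
      rfl
    rw [← h3, h2]
    unfold hermForm
    by_cases hij : i = j
    · subst hij
      rw [Matrix.one_apply_eq, Finset.sum_eq_single i]
      · rw [Pi.single_eq_same, one_pow, mul_one]
      · intro k _ hk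
        rw [Pi.single_eq_of_ne hk, zero_mul]
      · intro h2; exact absurd (Finset.mem_univ _) h2
    · rw [Matrix.one_apply_ne hij]
      refine Finset.sum_eq_zero fun k _ => ?_
      by_cases hk : k = i
      · rw [hk, Pi.single_eq_of_ne hij (M := fun _ => F) (1 : F), zero_pow (pow_ne_zero _ hr.out.ne_zero), mul_zero]
      · rw [Pi.single_eq_of_ne hk, zero_mul]
  have h2 := congrArg Matrix.det h1
  rw [Matrix.det_mul, Matrix.det_transpose, Matrix.det_one] at h2
  have h3 : (A.map (iterateFrobenius F r s)).det = A.det ^ r ^ s := by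
    have h4 := RingHom.map_det (iterateFrobenius F r s) A
    rw [RingHom.mapMatrix_apply, iterateFrobenius_def] at h4
    exact h4.symm
  rw [h3] at h2
  rw [pow_succ', h2]

/-- **`PSU_n(q)`** -/
theorem frmB_psu {p r : ℕ} [hp : Fact p.Prime] [hr : Fact r.Prime] (hrp : r ≠ p) (hp2 : p ≠ 2) [CharP F r]
    (hF : Fintype.card F = q ^ 2) (hn : 3 ≤ n) {S : Type u} [Group S] [Finite S] (e : S ≃* PSU n F q)
    (hd : dSU p q ≠ 1) (hA : AbSyl p S) (hP : ∀ P : Sylow p S, ¬ IsCyclic (P : Subgroup S)) :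
    FrmB p S (dSU p q) := by
  obtain ⟨s, rfl⟩ := exists_q r hF
  have hq1 : ¬ p ∣ r ^ s + 1 := by
    intro h
    apply hd
    unfold dSU
    rw [orderOf_eq_one_iff]
    have h1 : ((r ^ s + 1 : ℕ) : ZMod p) = 0 := (ZMod.natCast_eq_zero_iff _ _).2 h
    rw [Nat.cast_add, Nat.cast_one] at h1
    rw [eq_neg_of_add_eq_zero_left h1, neg_neg]
  have hcop : ∀ k : ℕ, Nat.Coprime (p ^ k) (r ^ s + 1) := fun k =>
    Nat.Coprime.pow_left k ((Nat.Prime.coprime_iff_not_dvd hp.out).2 hq1)
  let φ : ↥(SU n F (r ^ s)) →* ((Fin n → F) ≃ₗ[F] (Fin n → F)) :=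
    Matrix.SpecialLinearGroup.toLin'.comp (SU n F (r ^ s)).subtype
  have hφ : Function.Injective φ :=
    Matrix.SpecialLinearGroup.toLin'_injective.comp (SU n F (r ^ s)).subtype_injective
  have hφa : ∀ (x : ↥(SU n F (r ^ s))) (v : Fin n → F), φ x v = slToMat n F x *ᵥ v := by
    intro x v
    change Matrix.toLin' _ v = _
    rw [Matrix.toLin'_apply]
    rfl
  let π : ↥(SU n F (r ^ s)) →* S := (e.symm.toMonoidHom).comp (QuotientGroup.mk' (center ↥(SU n F (r ^ s))))
  have hπ : Function.Surjective π := e.symm.surjective.comp (QuotientGroup.mk'_surjective _)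
  have hker : ∀ z, π z = 1 → z ∈ center ↥(SU n F (r ^ s)) := by
    intro z hz
    have h1 : QuotientGroup.mk' (center ↥(SU n F (r ^ s))) z = 1 := (map_eq_one_iff _ e.symm.injective).1 hz
    exact (QuotientGroup.eq_one_iff z).1 h1
  refine frmB_of_model (r := r) (s := s) hp2 hrp (splF_herm hF) (fun a => iterateFrobenius_def ..) φ hφ ?_ ?_ π hπ
    (fun z hz x => (mem_center_iff.1 (hker z hz) x).symm) (fun z hz k hk => ?_) ?_ ?_ hA hP
  · intro x u v
    rw [hφa, hφa]
    exact x.2 u v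
  · intro g hg k hk
    set A := LinearMap.toMatrix' (g : (Fin n → F) →ₗ[F] (Fin n → F)) with hAdef
    have hAg : ∀ v, A *ᵥ v = g v := by
      intro v
      have h1 := LinearMap.toMatrix'_mulVec (g : (Fin n → F) →ₗ[F] (Fin n → F)) v
      exact h1
    have h1 : A.det ^ (r ^ s + 1) = 1 := det_pow fun u v => by rw [hAg, hAg]; exact hg u v
    have h2 : A ^ p ^ k = 1 := by
      have h3 : ∀ m : ℕ, A ^ m = LinearMap.toMatrix' ((g ^ m : (Fin n → F) ≃ₗ[F] (Fin n → F)) : (Fin n → F) →ₗ[F] (Fin n → F)) := by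
        intro m
        induction m with
        | zero =>
          rw [pow_zero]
          exact LinearMap.toMatrix'_one.symm
        | succ m ih =>
          rw [pow_succ, ih, hAdef, ← LinearMap.toMatrix'_mul]
          rfl
      rw [h3, hk]
      exact LinearMap.toMatrix'_one
    have h3 : A.det ^ p ^ k = 1 := by rw [← Matrix.det_pow, h2, Matrix.det_one]
    have h4 : A.det = 1 := by
      have h5 := orderOf_dvd_of_pow_eq_one h1
      have h6 := orderOf_dvd_of_pow_eq_one h3
      exact orderOf_eq_one_iff.1 (Nat.eq_one_of_dvd_coprimes (hcop k) h6 h5)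
    let x : Matrix.SpecialLinearGroup (Fin n) F := ⟨A, h4⟩
    have hx : slToMat n F x = A := rfl
    refine ⟨⟨x, fun u v => ?_⟩, ?_⟩
    · rw [hx, hAg, hAg]
      exact hg u v
    · apply LinearEquiv.ext
      intro v
      rw [hφa]
      exact hAg v
  · have h1 := Cfsg.Agent.H724.KB.center_pow hF hn (hker z hz)
    exact orderOf_eq_one_iff.1 (Nat.eq_one_of_dvd_coprimes (hcop k) (orderOf_dvd_of_pow_eq_one hk)
      (orderOf_dvd_of_pow_eq_one h1))
  · rw [Nat.card_eq_fintype_card, hF, Nat.cast_pow, ← neg_sq, ← pow_mul, mul_comm, pow_mul]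
    unfold dSU
    rw [pow_orderOf_eq_one, one_pow]
  · exact pow_orderOf_eq_one _

end Cfsg.Agent.H324.AP
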