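import Cfsg.Agent.H324.AP.Trans
import Cfsg.Agent.H443.XC.Defs
import Cfsg.Agent.H806.KB.SpRow

/-!
# S4791, S4927: the forms for `PSp_2m(q)` (helper324)
-/

set_option autoImplicit false

open Cfsg Subgroup

namespace Cfsg.Agent.H324.AP

open Cfsg.Agent.H443.XC
open Cfsg.Agent.H806.KB (Gam eSp sq_center_Gam spl_alt)
open Cfsg.Agent.ClassicalGeometry.SympBasic Cfsg.Agent.ClassicalGeometry.SympAutSemi
  Cfsg.Agent.ClassicalGeometry.SympGamma

universe u

/-- bilinear forms -/
theorem splF_of_spl {F V : Type*} [Field F] [AddCommGroup V] [Module F V] {B : V →ₗ[F] V →ₗ[F] F}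
    {G : Subgroup (V ≃ₗ[F] V)} (h : Cfsg.Agent.H418.KB.Spl B G) : SplF (RingHom.id F) (fun u v => B u v) G where
  add_left := fun u v w => by rw [map_add, LinearMap.add_apply]
  add_right := fun u v w => map_add _ _ _
  smul_left := fun a u v => by rw [map_smul, LinearMap.smul_apply, smul_eq_mul]
  smul_right := fun a u v => by rw [map_smul, smul_eq_mul, RingHom.id_apply]
  refl := fun u v huv => h.comm_zero huv
  nd := h.nd
  pres := h.pres
  split := h.split

theorem dSp_even (p q : ℕ) : Even (dSp p q) := by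
  unfold dSp
  split_ifs with h
  · exact h
  · exact even_two_mul _

theorem pow_dSp (p q : ℕ) : (q : ZMod p) ^ dSp p q = 1 := by
  unfold dSp
  split_ifs with h
  · exact pow_orderOf_eq_one _
  · rw [mul_comm, pow_mul, pow_orderOf_eq_one, one_pow]

theorem neg_one_pow_dSp (p q r : ℕ) : (-((r ^ 0 : ℕ) : ZMod p)) ^ dSp p q = 1 := by
  rw [pow_zero, Nat.cast_one]
  exact (dSp_even p q).neg_one_pow

theorem dSp_pos {p q : ℕ} [hp : Fact p.Prime] (h : (q : ZMod p) ≠ 0) : 1 ≤ dSp p q := by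
  have h1 : 0 < orderOf (q : ZMod p) := by
    rw [orderOf_pos_iff, isOfFinOrder_iff_pow_eq_one]
    refine ⟨p - 1, ?_, ZMod.pow_card_sub_one_eq_one h⟩
    have := hp.out.two_le
    omega
  unfold dSp
  split_ifs <;> omega

theorem frmB_psp {p r : ℕ} [hp : Fact p.Prime] [Fact r.Prime] (hrp : r ≠ p) (hp2 : p ≠ 2) {F : Type} [Field F] [Fintype F]
    [CharP F r] {m : ℕ} {S : Type u} [Group S] [Finite S] (e : S ≃* PSp m F) (hA : AbSyl p S)
    (hP : ∀ P : Sylow p S, ¬ IsCyclic (P : Subgroup S)) : FrmB p S (dSp p (Fintype.card F)) := by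
  have hG : Cfsg.Agent.H418.KB.Spl (sympBilin m F) (Gam m F) :=
    spl_alt (fun v => sympForm_self v) fun u hu => eq_zero_of_forall_sympForm_right hu
  let π : ↥(Gam m F) →* S := (((Cfsg.Agent.LieClassical.OrthFinite.quotientCenterCongr (eSp m F)).symm.trans
    e.symm).toMonoidHom).comp (QuotientGroup.mk' (center ↥(Gam m F)))
  have hπ : Function.Surjective π :=
    (((Cfsg.Agent.LieClassical.OrthFinite.quotientCenterCongr (eSp m F)).symm.trans e.symm).surjective).comp
      (QuotientGroup.mk'_surjective _)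
  have hker : ∀ z, π z = 1 → z ∈ center ↥(Gam m F) := by
    intro z hz
    have h1 : QuotientGroup.mk' (center ↥(Gam m F)) z = 1 :=
      (map_eq_one_iff _ (((Cfsg.Agent.LieClassical.OrthFinite.quotientCenterCongr (eSp m F)).symm.trans
        e.symm).injective)).1 hz
    exact (QuotientGroup.eq_one_iff z).1 h1
  refine frmB_of_model (r := r) (s := 0) hp2 hrp (splF_of_spl hG) (fun a => by rw [pow_zero, pow_one]; rfl)
    (Gam m F).subtype (Gam m F).subtype_injective (fun x => x.2) (fun g hg _ _ => ⟨⟨g, hg⟩, rfl⟩) π hπ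
    (fun z hz x => (mem_center_iff.1 (hker z hz) x).symm) (fun z hz k hk => ?_) ?_ (neg_one_pow_dSp _ _ _) hA hP
  · have h1 := sq_center_Gam (hker z hz)
    have h2 : orderOf z ∣ p ^ k := orderOf_dvd_of_pow_eq_one hk
    have h3 : orderOf z ∣ 2 := orderOf_dvd_of_pow_eq_one h1
    have h4 : Nat.Coprime (p ^ k) 2 := Nat.Coprime.pow_left k ((Nat.coprime_primes hp.out Nat.prime_two).2 hp2)
    exact orderOf_eq_one_iff.1 (Nat.eq_one_of_dvd_coprimes h4 h2 h3)
  · rw [Nat.card_eq_fintype_card]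
    exact pow_dSp p _

end Cfsg.Agent.H324.AP
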