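import Cfsg.Agent.H324.AP.POm
import Cfsg.Agent.H324.AP.Dim

/-!
# S4791, S4927, classical rows: abelian Sylow subgroups and the number of blocks (helper324)

* `ab_of_model` : `dim V < p E`: abelian Sylow `p`-subgroups of `S`;
* `two_of_model` : Sylow `p`-subgroups of `S` not cyclic: `2 E ≤ dim V`;
* `ab_EQ`, `two_EQ`, and the instances for `PΩ⁺_{2m}(q)` with `e₀ = ord_p (q²)`, `E = 2 e₀`.
-/

set_option autoImplicit false
set_option linter.unusedSectionVars false

open Cfsg Subgroup Module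

namespace Cfsg.Agent.H324.AP

open Cfsg.Agent.H443.XC
open Cfsg.Agent.LieClassical.OrthCore Cfsg.Agent.LieClassical.OrthTrans Cfsg.Agent.LieClassical.OrthForms
open Cfsg.Agent.LieClassical.OrthFinite

universe u v w w'

section model

variable {p : ℕ} [hp : Fact p.Prime] (hp2 : p ≠ 2) {F : Type u} [Field F] [Finite F] {r s : ℕ} [Fact r.Prime]
  [CharP F r] (hrp : r ≠ p) {V : Type v} [AddCommGroup V] [Module F V] [Finite V] [FiniteDimensional F V] {τ : F →+* F}
  {B : V → V → F} {G : Subgroup (V ≃ₗ[F] V)} (h : SplF τ B G) (hτ : ∀ a, τ a = a ^ (r ^ s)) {H : Type w} [Group H]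
  {S : Type w'} [Group S] [Finite S] (φ : H →* (V ≃ₗ[F] V)) (hφ : Function.Injective φ) (hG : ∀ x, φ x ∈ G)
  (hin : ∀ g ∈ G, ∀ k : ℕ, g ^ p ^ k = 1 → g ∈ φ.range) (π : H →* S) (hπ : Function.Surjective π) {E : ℕ}
  (hE : E ≤ 2 * orderOf ((Nat.card F : ℕ) : ZMod p))
  (hEi : (∃ j, p ∣ Nat.card F ^ j + r ^ s) → E ≤ orderOf ((Nat.card F : ℕ) : ZMod p))

include hφ hG hin in
omit [CharP F r] [Finite F] [FiniteDimensional F V] [Fact r.Prime] hp [Finite V] in
theorem syl_map (P' : Sylow p H) : Syl p G ((P' : Subgroup H).map φ) := by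
  refine ⟨?_, P'.2.map φ, fun Q hQG hQ hle => ?_⟩
  · rintro _ ⟨z, -, rfl⟩
    exact hG z
  · have h1 : Q ≤ φ.range := by
      intro g hg
      obtain ⟨k, hk⟩ := hQ ⟨g, hg⟩
      exact hin g (hQG hg) k (congrArg Subtype.val hk)
    have h2 : IsPGroup p (Q.comap φ) := hQ.comap_of_injective φ hφ
    have h3 : (P' : Subgroup H) ≤ Q.comap φ := Subgroup.map_le_iff_le_comap.1 hle
    have h4 : Q.comap φ = P' := P'.3 h2 h3
    rw [← h4, Subgroup.map_comap_eq_self h1]

include hp2 hrp h hτ hφ hG hin hπ hE hEi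

/-- **abelian Sylow subgroups** -/
theorem ab_of_model (hlt : finrank F V < p * E) (P : Sylow p S) :
    ∀ x ∈ (P : Subgroup S), ∀ y ∈ (P : Subgroup S), x * y = y * x := by
  have hfin : Finite (V ≃ₗ[F] V) := Finite.of_injective (fun g : V ≃ₗ[F] V => (g : V → V)) DFunLike.coe_injective
  have hHfin : Finite H := Finite.of_injective φ hφ
  have hpF : (p : F) ≠ 0 := by
    intro h0
    have h1 := (CharP.cast_eq_zero_iff F r p).1 h0
    exact hrp ((Nat.prime_dvd_prime_iff_eq Fact.out Fact.out).1 h1)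
  obtain ⟨P'⟩ : Nonempty (Sylow p H) := inferInstance
  have hS := syl_map φ hφ hG hin P'
  refine Cfsg.Agent.H674.XZ.Iso.comm_of_surj π hπ P' ?_ P
  by_contra hna
  have h1 := hS.le_of_nonab hp2 hpF h hτ (fun hcom => hna fun x hx y hy => hφ (by
    rw [map_mul, map_mul]
    exact hcom _ (Subgroup.mem_map_of_mem φ hx) _ (Subgroup.mem_map_of_mem φ hy))) hE hEi
  omega

/-- **two blocks** -/
theorem two_of_model (hP : ∀ P : Sylow p S, ¬ IsCyclic (P : Subgroup S)) (P' : Sylow p H) :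
    finrank F (fixP ((P' : Subgroup H).map φ)) + 2 * E ≤ finrank F V := by
  have hfin : Finite (V ≃ₗ[F] V) := Finite.of_injective (fun g : V ≃ₗ[F] V => (g : V → V)) DFunLike.coe_injective
  have hHfin : Finite H := Finite.of_injective φ hφ
  have hpF : (p : F) ≠ 0 := by
    intro h0
    have h1 := (CharP.cast_eq_zero_iff F r p).1 h0
    exact hrp ((Nat.prime_dvd_prime_iff_eq Fact.out Fact.out).1 h1)
  have hS := syl_map φ hφ hG hin P'
  refine hS.two_le hp2 hpF h hτ (fun hc => ?_) hE hEi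
  apply hP (P'.mapSurjective hπ)
  rw [Sylow.coe_mapSurjective]
  have hc' : IsCyclic (P' : Subgroup H) :=
    isCyclic_of_injective (((P' : Subgroup H).equivMapOfInjective _ hφ).toMonoidHom) (MulEquiv.injective _)
  exact isCyclic_of_surjective _ (π.subgroupMap_surjective (P' : Subgroup H))

end model

section dSp

variable {p : ℕ} [hp : Fact p.Prime]

theorem dSp_le (q : ℕ) : dSp p q ≤ 2 * orderOf (q : ZMod p) := by
  unfold dSp
  split_ifs <;> omega

theorem dSp_le' (hp2 : p ≠ 2) (q : ℕ) (hj : ∃ j, p ∣ q ^ j + 1) : dSp p q ≤ orderOf (q : ZMod p) := by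
  obtain ⟨j, hj⟩ := hj
  have h1 : Even (orderOf (q : ZMod p)) := by
    by_contra hodd
    rw [Nat.not_even_iff_odd] at hodd
    have h2 : (q : ZMod p) ^ j = -1 := by
      have h3 : ((q ^ j + 1 : ℕ) : ZMod p) = 0 := (ZMod.natCast_eq_zero_iff _ _).2 hj
      rw [Nat.cast_add, Nat.cast_pow, Nat.cast_one] at h3
      exact eq_neg_of_add_eq_zero_left h3
    have h4 : (1 : ZMod p) = -1 := by
      calc (1 : ZMod p) = ((q : ZMod p) ^ orderOf (q : ZMod p)) ^ j := by rw [pow_orderOf_eq_one, one_pow]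
        _ = ((q : ZMod p) ^ j) ^ orderOf (q : ZMod p) := by rw [← pow_mul, mul_comm, pow_mul]
        _ = -1 := by rw [h2, hodd.neg_one_pow]
    have h5 : ((2 : ℕ) : ZMod p) = 0 := by
      have h6 : (1 : ZMod p) + 1 = 0 := by nth_rewrite 1 [h4]; ring
      rw [Nat.cast_ofNat, ← one_add_one_eq_two]
      exact h6
    rw [ZMod.natCast_eq_zero_iff] at h5
    exact hp2 ((Nat.prime_dvd_prime_iff_eq hp.out Nat.prime_two).1 h5)
  unfold dSp
  rw [if_pos h1]

theorem dSp_eq (q : ℕ) (h0 : IsOfFinOrder (q : ZMod p)) : dSp p q = 2 * orderOf ((q : ZMod p) ^ 2) := by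
  unfold dSp
  rw [h0.orderOf_pow]
  split_ifs with h
  · rw [Nat.gcd_eq_right h.two_dvd, Nat.mul_div_cancel' h.two_dvd]
  · have h1 : Nat.gcd (orderOf (q : ZMod p)) 2 = 1 := (Nat.coprime_two_right.2 (Nat.not_even_iff_odd.1 h))
    rw [h1, Nat.div_one]

end dSp

section EQ

variable {p r : ℕ} [hp : Fact p.Prime] [Fact r.Prime] (hrp : r ≠ p) (hp2 : p ≠ 2)

include hrp hp2

theorem ab_EQ {F V : Type*} [Field F] [Fintype F] [CharP F r] [AddCommGroup V] [Module F V] [Finite V]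
    {Q : QuadraticForm F V} (hG : Good Q) {S : Type u} [Group S] [Finite S] (e : S ≃* (↥(E Q) ⧸ center ↥(E Q)))
    (hlt : finrank F V < p * dSp p (Fintype.card F)) : AbSyl p S := by
  have hfd : FiniteDimensional F V := Module.finite_of_finrank_pos (by have := hG.dim; omega)
  have hpodd : Odd p := hp.out.odd_of_ne_two hp2
  intro P
  refine ab_of_model (r := r) (s := 0) hp2 hrp (splF_of_spl (Cfsg.Agent.H418.KB.spl_O hG.nondeg))
    (fun a => by rw [pow_zero, pow_one]; rfl)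
    (E Q).subtype (E Q).subtype_injective (fun x => E_le_O x.2)
    (fun g hg k hk => ⟨⟨g, Cfsg.Agent.H875.KB.mem_E_of_pow hG hg hpodd.pow hk⟩, rfl⟩)
    ((e.symm.toMonoidHom).comp (QuotientGroup.mk' (center ↥(E Q)))) (e.symm.surjective.comp (QuotientGroup.mk'_surjective _))
    (E := dSp p (Fintype.card F)) (by rw [Nat.card_eq_fintype_card]; exact dSp_le _)
    (by rw [Nat.card_eq_fintype_card, pow_zero]; exact dSp_le' hp2 _) hlt P

theorem two_EQ {F V : Type*} [Field F] [Fintype F] [CharP F r] [AddCommGroup V] [Module F V] [Finite V]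
    {Q : QuadraticForm F V} (hG : Good Q) {S : Type u} [Group S] [Finite S] (e : S ≃* (↥(E Q) ⧸ center ↥(E Q)))
    (hP : ∀ P : Sylow p S, ¬ IsCyclic (P : Subgroup S)) (P' : Sylow p ↥(E Q)) :
    finrank F (fixP ((P' : Subgroup ↥(E Q)).map (E Q).subtype)) + 2 * dSp p (Fintype.card F) ≤ finrank F V := by
  have hfd : FiniteDimensional F V := Module.finite_of_finrank_pos (by have := hG.dim; omega)
  have hpodd : Odd p := hp.out.odd_of_ne_two hp2
  exact two_of_model (r := r) (s := 0) hp2 hrp (splF_of_spl (Cfsg.Agent.H418.KB.spl_O hG.nondeg))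
    (fun a => by rw [pow_zero, pow_one]; rfl)
    (E Q).subtype (E Q).subtype_injective (fun x => E_le_O x.2)
    (fun g hg k hk => ⟨⟨g, Cfsg.Agent.H875.KB.mem_E_of_pow hG hg hpodd.pow hk⟩, rfl⟩)
    ((e.symm.toMonoidHom).comp (QuotientGroup.mk' (center ↥(E Q)))) (e.symm.surjective.comp (QuotientGroup.mk'_surjective _))
    (E := dSp p (Fintype.card F)) (by rw [Nat.card_eq_fintype_card]; exact dSp_le _)
    (by rw [Nat.card_eq_fintype_card, pow_zero]; exact dSp_le' hp2 _) hP P'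

variable {F : Type} [Field F] [Fintype F] [CharP F r] {S : Type u} [Group S] [Finite S]

omit hp2 in
theorem finOrder_q : IsOfFinOrder ((Fintype.card F : ℕ) : ZMod p) := by
  rw [isOfFinOrder_iff_pow_eq_one]
  refine ⟨p - 1, ?_, ZMod.pow_card_sub_one_eq_one fun h0 => ?_⟩
  · have := hp.out.two_le
    omega
  · rw [ZMod.natCast_eq_zero_iff] at h0
    obtain ⟨l, hr1, hn⟩ := FiniteField.card F r
    rw [hn] at h0
    exact hrp ((Nat.prime_dvd_prime_iff_eq hp.out hr1).1 (hp.out.dvd_of_dvd_pow h0)).symm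

/-- `PΩ⁺_{2m}(q)`, `m < p e₀`: abelian Sylow subgroups -/
theorem ab_plus {m : ℕ} (hm : 3 ≤ m) (e : S ≃* POmega F (quadFormPlus m F))
    (hlt : m < p * orderOf (((Fintype.card F : ℕ) : ZMod p) ^ 2)) : AbSyl p S := by
  have hfr : finrank F (Fin m ⊕ Fin m → F) = 2 * m := by
    rw [finrank_fintype_fun_eq_card]
    simp
    omega
  have hG : Good (plusForm m F) := good_of_finite (nondeg_plusForm m F) (by rw [hfr]; omega)
  have e0 : POmega F ⇑(plusForm m F) ≃* (↥(E (plusForm m F)) ⧸ center ↥(E (plusForm m F))) :=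
    Cfsg.Agent.AutOrth.Main.pe hG
  rw [coe_plusForm] at e0
  refine ab_EQ hrp hp2 hG (e.trans e0) ?_
  rw [hfr, dSp_eq _ (finOrder_q hrp)]
  calc 2 * m < 2 * (p * orderOf (((Fintype.card F : ℕ) : ZMod p) ^ 2)) := by omega
    _ = _ := by ring

/-- `PΩ⁺_{2m}(q)`, Sylow subgroups not cyclic -/
theorem two_plus {m : ℕ} (hm : 3 ≤ m) (e : S ≃* POmega F (quadFormPlus m F))
    (hP : ∀ P : Sylow p S, ¬ IsCyclic (P : Subgroup S)) :
    2 * orderOf (((Fintype.card F : ℕ) : ZMod p) ^ 2) ≤ m := by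
  have hfr : finrank F (Fin m ⊕ Fin m → F) = 2 * m := by
    rw [finrank_fintype_fun_eq_card]
    simp
    omega
  have hG : Good (plusForm m F) := good_of_finite (nondeg_plusForm m F) (by rw [hfr]; omega)
  have e0 : POmega F ⇑(plusForm m F) ≃* (↥(E (plusForm m F)) ⧸ center ↥(E (plusForm m F))) :=
    Cfsg.Agent.AutOrth.Main.pe hG
  rw [coe_plusForm] at e0
  obtain ⟨P'⟩ : Nonempty (Sylow p ↥(E (plusForm m F))) := inferInstance
  have h1 := two_EQ hrp hp2 hG (e.trans e0) hP P'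
  rw [hfr, dSp_eq _ (finOrder_q hrp)] at h1
  omega

/-- `PΩ⁺_{2m}(q)`: the forms, `E = 2 e₀` -/
theorem frmG_plus {m : ℕ} (hm : 3 ≤ m) (e : S ≃* POmega F (quadFormPlus m F)) (hA : AbSyl p S)
    (hP : ∀ P : Sylow p S, ¬ IsCyclic (P : Subgroup S)) :
    FrmG p S (2 * orderOf (((Fintype.card F : ℕ) : ZMod p) ^ 2)) := by
  have h1 := (frmB_omegaPlus hrp hp2 hA hP hm e).frmG hp2 (dSp_pos fun h0 => ?_)
  · rwa [dSp_eq _ (finOrder_q hrp)] at h1
  · have h2 := finOrder_q (F := F) hrp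
    rw [h0] at h2
    exact absurd (h2.isUnit) (by
      rw [isUnit_zero_iff]
      exact zero_ne_one)

end EQ

end Cfsg.Agent.H324.AP
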