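import Cfsg.Agent.H324.AP.Form
import Cfsg.Agent.H324.AP.FrmB

/-!
# S4791, S4927, classical rows: block generators of the simple groups (helper324)

`frmB_of_model` : `G` an isometry group (`SplF`), `H → G` injective, the `p`-elements of `G` are in the image, `H → S`
surjective with central kernel without `p`-elements: `FrmB p S E`.
-/

set_option autoImplicit false

namespace Cfsg.Agent.H324.AP

open Submodule Module

universe u v w w'

/-- **transport of block generators** -/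
theorem bg_trans {p : ℕ} [Fact p.Prime] {A : Type v} [Group A] {H : Type w} [Group H] [Finite H] {S : Type w'} [Group S]
    [Finite S] {G : Subgroup A} (φ : H →* A) (hφ : Function.Injective φ) (hG : ∀ x, φ x ∈ G) (π : H →* S)
    (hker : ∀ z, π z = 1 → ∀ x, z * x = x * z) (hkp : ∀ z, π z = 1 → ∀ k : ℕ, z ^ p ^ k = 1 → z = 1)
    (hπ : Function.Surjective π) {P' : Sylow p H} {P : Sylow p S} (hP : (P' : Subgroup H).map π = P) {ι : Type*} {x : ι → A}
    {E : ℕ} (h : BG p G ((P' : Subgroup H).map φ) x E) : ∃ y : ι → S, BG p ⊤ (P : Subgroup S) y E := by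
  have hmem := h.mem
  choose y hyP hy using fun i => Subgroup.mem_map.1 (h.mem i)
  have hπP : ∀ z ∈ (P' : Subgroup H), π z ∈ (P : Subgroup S) := fun z hz => by
    rw [← hP]; exact Subgroup.mem_map_of_mem π hz
  have hkerP : ∀ z ∈ (P' : Subgroup H), π z = 1 → z = 1 := by
    intro z hz h1
    obtain ⟨k, hk⟩ := P'.2 ⟨z, hz⟩
    exact hkp z h1 k (congrArg Subtype.val hk)
  let ρ : (P' : Subgroup H) →* (P : Subgroup S) :=
    { toFun := fun z => ⟨π z, hπP z z.2⟩
      map_one' := Subtype.ext (map_one π)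
      map_mul' := fun a b => Subtype.ext (map_mul π _ _) }
  have hρ : Function.Bijective ρ := by
    refine ⟨?_, fun z => ?_⟩
    · rw [injective_iff_map_eq_one]
      intro z hz
      exact Subtype.ext (hkerP z z.2 (congrArg Subtype.val hz))
    · obtain ⟨z, hz⟩ := z
      have hz' := hz
      rw [← hP] at hz'
      obtain ⟨z', hz1, rfl⟩ := Subgroup.mem_map.1 hz'
      exact ⟨⟨z', hz1⟩, rfl⟩
  let e1 := MulEquiv.ofBijective ρ hρ
  let φ' : (P' : Subgroup H) →* ((P' : Subgroup H).map φ : Subgroup A) :=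
    { toFun := fun z => ⟨φ z, Subgroup.mem_map_of_mem φ z.2⟩
      map_one' := Subtype.ext (map_one φ)
      map_mul' := fun a b => Subtype.ext (map_mul φ _ _) }
  refine ⟨fun i => π (y i), ⟨fun i => hπP _ (hyP i), fun v => ?_, fun g hg => ?_⟩⟩
  · obtain ⟨l, hl⟩ := h.free v
    refine ⟨(l.comp φ').comp e1.symm.toMonoidHom, fun i => ?_⟩
    have h1 : e1.symm ⟨π (y i), hπP _ (hyP i)⟩ = ⟨y i, hyP i⟩ := by
      rw [MulEquiv.symm_apply_eq]
      rfl
    have h2 : ((l.comp φ').comp e1.symm.toMonoidHom) ⟨π (y i), hπP _ (hyP i)⟩ = l ⟨x i, hmem i⟩ := by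
      change l (φ' (e1.symm ⟨π (y i), hπP _ (hyP i)⟩)) = _
      rw [h1]
      congr 1
      exact Subtype.ext (hy i)
    rw [h2]
    exact hl i
  · obtain ⟨a, rfl⟩ := hπ g
    have key : ∀ a : H, π a ∈ Subgroup.normalizer ((P : Subgroup S) : Set S) → ∀ z ∈ (P' : Subgroup H),
        a * z * a⁻¹ ∈ (P' : Subgroup H) := by
      intro a ha z hz
      have h1 : π (a * z * a⁻¹) ∈ (P : Subgroup S) := by
        rw [map_mul, map_mul, map_inv]
        exact (Subgroup.mem_normalizer_iff.1 ha _).1 (hπP z hz)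
      rw [← hP] at h1
      obtain ⟨z', hz', h2⟩ := Subgroup.mem_map.1 h1
      set c := a * z * a⁻¹ with hc
      have h3 : π (z'⁻¹ * c) = 1 := by rw [map_mul, map_inv, h2, inv_mul_cancel]
      have h4 := hker _ h3
      obtain ⟨k, hk⟩ := P'.2 ⟨z, hz⟩
      obtain ⟨k', hk'⟩ := P'.2 ⟨z', hz'⟩
      have e2 : c ^ p ^ k = 1 := by
        rw [hc, conj_pow, show z ^ p ^ k = 1 from congrArg Subtype.val hk]
        group
      have e3 : z' ^ p ^ k' = 1 := congrArg Subtype.val hk'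
      have h5 : (z'⁻¹ * c) ^ p ^ (k + k') = 1 := by
        have hcomm : Commute z'⁻¹ c := by
          have h6 := h4 z'⁻¹
          have h7 : z'⁻¹ * c * z'⁻¹ = z'⁻¹ * (z'⁻¹ * c) := h6
          have h8 : c * z'⁻¹ = z'⁻¹ * c := mul_left_cancel (by rw [← mul_assoc]; exact h7 : z'⁻¹ * (c * z'⁻¹) = z'⁻¹ * (z'⁻¹ * c))
          exact h8.symm
        rw [hcomm.mul_pow, pow_add, pow_mul c, e2, one_pow, mul_one, inv_pow, mul_comm (p ^ k), pow_mul z', e3, one_pow,
          inv_one]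
      have h6 := hkp _ h3 _ h5
      rw [inv_mul_eq_one.1 h6 |>.symm]
      exact hz'
    have haN : a ∈ Subgroup.normalizer ((P' : Subgroup H) : Set H) := by
      rw [Subgroup.mem_normalizer_iff]
      intro z
      refine ⟨key a hg.2 z, fun hz => ?_⟩
      have h1 := key a⁻¹ (by rw [map_inv]; exact Subgroup.inv_mem _ hg.2) _ hz
      have h2 : a⁻¹ * (a * z * a⁻¹) * a⁻¹⁻¹ = z := by group
      rwa [h2] at h1
    have hφN : φ a ∈ G ⊓ Subgroup.normalizer (((P' : Subgroup H).map φ : Subgroup A) : Set A) := by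
      refine ⟨hG a, ?_⟩
      change φ a ∈ Subgroup.normalizer (((P' : Subgroup H).map φ : Subgroup A) : Set A)
      rw [Subgroup.mem_normalizer_iff]
      intro z
      constructor
      · intro hz
        obtain ⟨z', hz', rfl⟩ := Subgroup.mem_map.1 hz
        rw [← map_inv, ← map_mul, ← map_mul]
        exact Subgroup.mem_map_of_mem φ ((Subgroup.mem_normalizer_iff.1 haN z').1 hz')
      · intro hz
        obtain ⟨z', hz', h1⟩ := Subgroup.mem_map.1 hz
        have h2 : z = φ (a⁻¹ * z' * a) := by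
          rw [map_mul, map_mul, h1, map_inv]
          group
        rw [h2]
        refine Subgroup.mem_map_of_mem φ ((Subgroup.mem_normalizer_iff.1 haN _).2 ?_)
        have h3 : a * (a⁻¹ * z' * a) * a⁻¹ = z' := by group
        rw [h3]
        exact hz'
    obtain ⟨σ, hσ⟩ := h.act _ hφN
    refine ⟨σ, fun i => ?_⟩
    obtain ⟨t, ht, h1⟩ := hσ i
    refine ⟨t, ht, ?_⟩
    rw [← hy i, ← hy (σ i), ← map_inv, ← map_mul, ← map_mul, ← map_pow] at h1
    have h2 := hφ h1
    rw [← map_inv, ← map_mul, ← map_mul, ← map_pow, h2]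

/-- **the simple group of an isometry group** -/
theorem frmB_of_model {p : ℕ} [Fact p.Prime] (hp2 : p ≠ 2) {F : Type u} [Field F] [Finite F] {r s : ℕ} [Fact r.Prime]
    [CharP F r] (hrp : r ≠ p) {V : Type v} [AddCommGroup V] [Module F V] [Finite V] [FiniteDimensional F V] {τ : F →+* F}
    {B : V → V → F} {G : Subgroup (V ≃ₗ[F] V)} (h : SplF τ B G) (hτ : ∀ a, τ a = a ^ (r ^ s)) {H : Type w} [Group H]
    {S : Type w'} [Group S] [Finite S] (φ : H →* (V ≃ₗ[F] V)) (hφ : Function.Injective φ) (hG : ∀ x, φ x ∈ G)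
    (hin : ∀ g ∈ G, ∀ k : ℕ, g ^ p ^ k = 1 → g ∈ φ.range) (π : H →* S) (hπ : Function.Surjective π)
    (hker : ∀ z, π z = 1 → ∀ x, z * x = x * z) (hkp : ∀ z, π z = 1 → ∀ k : ℕ, z ^ p ^ k = 1 → z = 1) {E : ℕ}
    (hE1 : ((Nat.card F : ℕ) : ZMod p) ^ E = 1) (hE2 : (-((r ^ s : ℕ) : ZMod p)) ^ E = 1)
    (hA : ∀ P : Sylow p S, ∀ x ∈ (P : Subgroup S), ∀ y ∈ (P : Subgroup S), x * y = y * x)
    (hP : ∀ P : Sylow p S, ¬ IsCyclic (P : Subgroup S)) : FrmB p S E := by
  have hfin : Finite (V ≃ₗ[F] V) := Finite.of_injective (fun g : V ≃ₗ[F] V => (g : V → V)) DFunLike.coe_injective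
  have hHfin : Finite H := Finite.of_injective φ hφ
  have hpF : (p : F) ≠ 0 := by
    intro h0
    have h1 := (CharP.cast_eq_zero_iff F r p).1 h0
    exact hrp ((Nat.prime_dvd_prime_iff_eq Fact.out Fact.out).1 h1)
  intro P
  refine ⟨hA P, ?_⟩
  obtain ⟨P', hP'⟩ := Sylow.mapSurjective_surjective hπ p P
  have hmap : (P' : Subgroup H).map π = P := by
    rw [← hP']
    rfl
  have hkerP : ∀ z ∈ (P' : Subgroup H), π z = 1 → z = 1 := by
    intro z hz h1
    obtain ⟨k, hk⟩ := P'.2 ⟨z, hz⟩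
    exact hkp z h1 k (congrArg Subtype.val hk)
  have hπP : ∀ z ∈ (P' : Subgroup H), π z ∈ (P : Subgroup S) := fun z hz => by
    rw [← hmap]; exact Subgroup.mem_map_of_mem π hz
  have hSyl : Syl p G ((P' : Subgroup H).map φ) := by
    refine ⟨?_, P'.2.map φ, fun Q hQG hQ hle => ?_⟩
    · rintro _ ⟨z, -, rfl⟩
      exact hG z
    · have h1 : Q ≤ φ.range := by
        intro g hg
        obtain ⟨k, hk⟩ := hQ ⟨g, hg⟩
        exact hin g (hQG hg) k (congrArg Subtype.val hk)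
      have h2 : IsPGroup p (Q.comap φ) := hQ.comap_of_injective φ hφ
      have h3 : (P' : Subgroup H) ≤ Q.comap φ := Subgroup.map_le_iff_le_comap.1 hle
      have h4 : Q.comap φ = P' := P'.3 h2 h3
      rw [← h4, Subgroup.map_comap_eq_self h1]
  have hab' : ∀ a ∈ (P' : Subgroup H).map φ, ∀ b ∈ (P' : Subgroup H).map φ, a * b = b * a := by
    rintro _ ⟨a, ha, rfl⟩ _ ⟨b, hb, rfl⟩
    rw [← map_mul, ← map_mul]
    congr 1
    have h1 : π (a * b * (b * a)⁻¹) = 1 := by
      rw [map_mul, map_inv, map_mul, map_mul, hA P _ (hπP a ha) _ (hπP b hb), mul_inv_cancel]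
    exact mul_inv_eq_one.1 (hkerP _ (P'.mul_mem (P'.mul_mem ha hb) (P'.inv_mem (P'.mul_mem hb ha))) h1)
  have hnc : ¬ IsCyclic ((P' : Subgroup H).map φ) := by
    intro hc
    apply hP P
    obtain ⟨⟨z, hz⟩, hgen⟩ := hc.exists_generator
    obtain ⟨y, hy, rfl⟩ := Subgroup.mem_map.1 hz
    refine ⟨⟨⟨π y, hπP y hy⟩, fun c => ?_⟩⟩
    obtain ⟨c, hc⟩ := c
    have hc' := hc
    rw [← hmap] at hc'
    obtain ⟨c', hc1, rfl⟩ := Subgroup.mem_map.1 hc'
    obtain ⟨n, hn⟩ := Subgroup.mem_zpowers_iff.1 (hgen ⟨φ c', Subgroup.mem_map_of_mem φ hc1⟩)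
    have h1 : φ (y ^ n) = φ c' := by
      rw [map_zpow]
      exact congrArg Subtype.val hn
    refine Subgroup.mem_zpowers_iff.2 ⟨n, Subtype.ext ?_⟩
    change (π y) ^ n = π c'
    rw [← hφ h1, map_zpow]
  obtain ⟨n, x, hn, hx⟩ := h.exists_bg hp2 hpF hτ hSyl hab' hnc hE1 hE2
  obtain ⟨y, hy⟩ := bg_trans φ hφ hG π hker hkp hπ hmap hx
  exact ⟨n, y, hn, hy⟩

end Cfsg.Agent.H324.AP
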